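import Cfsg.Agent.Lib.Compute.Ru.Defs

/-!
# Checks: the generators preserve the relations
-/

set_option autoImplicit false

namespace Cfsg.Agent.Lib.Compute.Ru.Check1

open Cfsg.Agent.Lib.Compute.PermCert Cfsg.Agent.Lib.Compute.Ru.Core
open Cfsg.Agent.Lib.Compute.Ru.Data Cfsg.Agent.Lib.Compute.Ru.RowsA Cfsg.Agent.Lib.Compute.Ru.RowsR
open Cfsg.Agent.Lib.Compute.Ru.Defs

theorem valid_P : gensP.all (validB 12 4095 deg) = true := by decide +kernel

theorem valid_T : gensT.all (validB 12 4095 deg) = true := by decide +kernel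

theorem aut_g1 : autChk deg raAt 12 4095 eg1 lg1 = true := by decide +kernel

theorem aut_g2 : autChk deg raAt 12 4095 eg2 lg2 = true := by decide +kernel

theorem aut_t1 : autChk deg rrAt 12 4095 et1 lt1 = true := by decide +kernel

theorem aut_t2 : autChk deg rrAt 12 4095 et2 lt2 = true := by decide +kernel

end Cfsg.Agent.Lib.Compute.Ru.Check1
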