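import Cfsg.Agent.Lib.Compute.Ru.Defs

/-!
# Checks: refinement programs, trees, words
-/

set_option autoImplicit false
set_option exponentiation.threshold 5000

namespace Cfsg.Agent.Lib.Compute.Ru.Check2

open Cfsg.Agent.Lib.Compute.PermCert Cfsg.Agent.Lib.Compute.Ru.Core
open Cfsg.Agent.Lib.Compute.Ru.Data Cfsg.Agent.Lib.Compute.Ru.RowsA Cfsg.Agent.Lib.Compute.Ru.RowsR
open Cfsg.Agent.Lib.Compute.Ru.Defs

/-- The full mask. -/
def mU : Nat := Nat.sub (Nat.pow 2 deg) 1

/-- Mask of a level. -/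
def mL0 : Nat := memAt (runP deg raAt [0] progL0) 0
/-- Mask of a level. -/
def mL1 : Nat := memAt (runP deg raAt [1, 0] progL1) 0
/-- Mask of a level. -/
def mL2 : Nat := memAt (runP deg raAt [2, 1, 0] progL2) 0

theorem lvl0 : (tb mL0 1 && Nat.blt mL0 (Nat.pow 2 deg) && Nat.beq (popc mL0) 2304) = true := by decide +kernel
theorem lvl1 : (tb mL1 2 && Nat.blt mL1 (Nat.pow 2 deg) && Nat.beq (popc mL1) 650) = true := by decide +kernel
theorem lvl2 : (tb mL2 5 && Nat.blt mL2 (Nat.pow 2 deg) && Nat.beq (popc mL2) 24) = true := by decide +kernel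
theorem lvl3 : sep (runP deg raAt [5, 2, 1, 0] progL3) mU = true := by decide +kernel

theorem popc_U : Nat.beq (popc mU) 4060 = true := by decide +kernel

/-- The actions of letters. -/
def actP (c p : Nat) : Nat := wfP [c] p
/-- The actions of letters. -/
def actT (c p : Nat) : Nat := wfT [c] p
/-- The actions of words. -/
def act1 (c p : Nat) : Nat := wfT (nthL w1L c) p
/-- The actions of words. -/
def act2 (c p : Nat) : Nat := wfT (nthL w2L c) p
/-- The actions of words. -/
def actX (c p : Nat) : Nat := wfT (nthL wxL c) p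

theorem tree_P : Nat.beq (treeGo actP treeP 4059 0 (Nat.shiftLeft 1 0)) mU = true := by decide +kernel
theorem tree_Y : Nat.beq (treeGo actT treeY 2303 0 (Nat.shiftLeft 1 1)) mY = true := by decide +kernel
theorem tree_X : Nat.beq (treeGo actT treeX 1754 0 (Nat.shiftLeft 1 2305)) mX = true := by decide +kernel
theorem tree_325 : Nat.beq (treeGo act1 tree325 324 0 (Nat.shiftLeft 1 2)) m325 = true := by decide +kernel
theorem tree_24 : Nat.beq (treeGo act2 tree24 23 0 (Nat.shiftLeft 1 5)) m24 = true := by decide +kernel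

theorem tree_f0 : Nat.beq (treeGo actX tf0 0 0 (Nat.shiftLeft 1 2305)) mf0 = true := by decide +kernel
theorem tree_f1 : Nat.beq (treeGo actX tf1 1023 0 (Nat.shiftLeft 1 2306)) mf1 = true := by decide +kernel
theorem tree_f2 : Nat.beq (treeGo actX tf2 9 0 (Nat.shiftLeft 1 3330)) mf2 = true := by decide +kernel
theorem tree_f3 : Nat.beq (treeGo actX tf3 639 0 (Nat.shiftLeft 1 3331)) mf3 = true := by decide +kernel
theorem tree_f4 : Nat.beq (treeGo actX tf4 79 0 (Nat.shiftLeft 1 3844)) mf4 = true := by decide +kernel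

theorem popc_masks : (Nat.beq (popc mY) 2304 && Nat.beq (popc mX) 1755 && Nat.beq (popc m325) 325 &&
    Nat.beq (popc m24) 24 && Nat.beq (popc mf0) 1 && Nat.beq (popc mf1) 1024 && Nat.beq (popc mf2) 10 &&
    Nat.beq (popc mf3) 640 && Nat.beq (popc mf4) 80) = true := by decide +kernel

theorem bound_masks : (Nat.blt mY (Nat.pow 2 deg) && Nat.blt mX (Nat.pow 2 deg) && Nat.blt m325 (Nat.pow 2 deg) &&
    Nat.blt m24 (Nat.pow 2 deg) && Nat.blt mf0 (Nat.pow 2 deg) && Nat.blt mf1 (Nat.pow 2 deg) &&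
    Nat.blt mf2 (Nat.pow 2 deg) && Nat.blt mf3 (Nat.pow 2 deg) && Nat.blt mf4 (Nat.pow 2 deg)) = true := by
  decide +kernel

theorem part_masks : (Nat.beq (Nat.lor mf0 (Nat.lor mf1 (Nat.lor mf2 (Nat.lor mf3 mf4)))) mX &&
    Nat.beq (Nat.land mf0 (Nat.lor mf1 (Nat.lor mf2 (Nat.lor mf3 mf4)))) 0 &&
    Nat.beq (Nat.land mf1 (Nat.lor mf2 (Nat.lor mf3 mf4))) 0 &&
    Nat.beq (Nat.land mf2 (Nat.lor mf3 mf4)) 0 && Nat.beq (Nat.land mf3 mf4) 0) = true := by decide +kernel

theorem mX_row : Nat.beq mX (raAt 0) = true := by decide +kernel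

theorem mY_mL0 : Nat.beq mY mL0 = true := by decide +kernel

theorem mY_compl : Nat.beq (Nat.lor (Nat.lor mX mY) 1) mU = true := by decide +kernel

theorem mY_disj : (Nat.beq (Nat.land mX mY) 0 && !tb mX 0 && !tb mY 0) = true := by decide +kernel

theorem word_fix1 : w1L.all (fun u => Nat.beq (wfT u 1) 1) = true := by decide +kernel

theorem word_fix2 : w2L.all (fun u => Nat.beq (wfT u 1) 1 && Nat.beq (wfT u 2) 2) = true := by decide +kernel

theorem word_fixX : wxL.all (fun u => Nat.beq (wfT u 2305) 2305) = true := by decide +kernel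

theorem t_fix0 : (Nat.beq (get 12 4095 et1.f 0) 0 && Nat.beq (get 12 4095 et2.f 0) 0) = true := by decide +kernel

theorem word_t1 : wordCheck 12 4095 deg gensP wt1 et1 = true := by decide +kernel

theorem word_t2 : wordCheck 12 4095 deg gensP wt2 et2 = true := by decide +kernel

theorem s_props : (Nat.beq (wfP ws 0) 0 && tb (rrAt 1) 2 && !(tb (rrAt (wfP ws 1)) (wfP ws 2))) = true := by
  decide +kernel

theorem r1_props : (Nat.beq (popc (rrAt 1)) 325 && Nat.blt (rrAt 1) (Nat.pow 2 deg)) = true := by decide +kernel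

/-- The check of the order. -/
def ordP (p : Nat) (e : Elt) : Bool :=
  allB (fun i => Nat.beq ((get 12 4095 e.f)^[p] i) i) deg && !(Nat.beq (get 12 4095 e.f 1) 1)

theorem ord_P : gensP.all (ordP 29) = true := by decide +kernel

theorem ord_T : gensT.all (ordP 13) = true := by decide +kernel

theorem sepX_props : (sep (sepX.map raAt) mU && sepX.all (fun x => Nat.blt x deg && tb mX x)) = true := by decide +kernel

end Cfsg.Agent.Lib.Compute.Ru.Check2
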