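import Cfsg.Agent.Lib.Compute.J3.Chain

/-!
# Certified bounds for the automorphism group of a graph given by bit rows

The rows of an adjacency relation are stored as natural numbers.  A permutation of the points is checked to be an
automorphism through a sorting network of bit swaps, which is additive on bit vectors; the order of the automorphism group is
bounded above by colour refinement, run as a small straight-line program on bit masks.
-/

set_option autoImplicit false
set_option exponentiation.threshold 5000

namespace Cfsg.Agent.Lib.Compute.Ru.Core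

open MulAction
open Cfsg.Agent.Lib.Compute.PermCert

/-! ### Forcing evaluation -/

/-- Evaluate a number, then continue. -/
def force {α : Type} (v : Nat) (k : Nat → α) : α := Nat.rec (k 0) (fun n _ => k (Nat.succ n)) v

theorem force_eq {α : Type} (v : Nat) (k : Nat → α) : force v k = k v := by
  cases v <;> rfl

/-- The bit test, in a form quick for the kernel. -/
def tb (x i : Nat) : Bool := Nat.beq (Nat.land (Nat.shiftRight x i) 1) 1

theorem tb_eq (x i : Nat) : tb x i = x.testBit i := by
  have h1 : Nat.land (Nat.shiftRight x i) 1 = (x >>> i) % 2 := Nat.and_one_is_mod _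
  unfold tb
  rw [h1, Nat.testBit_eq_decide_div_mod_eq, Nat.shiftRight_eq_div_pow]
  by_cases h : x / 2 ^ i % 2 = 1
  · simp [h]
  · have h3 : Nat.beq (x / 2 ^ i % 2) 1 = false := by
      rw [← Bool.not_eq_true, Nat.beq_eq]
      exact h
    rw [h3]
    simp [h]

/-! ### Networks of bit swaps -/

/-- Swap the bits at `i` and `i + d` for the `i` in the mask. -/
def delta (x d m : Nat) : Nat :=
  (fun t => Nat.xor (Nat.xor x t) (Nat.shiftLeft t d)) (Nat.land (Nat.xor (Nat.shiftRight x d) x) m)

theorem delta_eq (x d m : Nat) :
    delta x d m = x ^^^ (((x >>> d) ^^^ x) &&& m) ^^^ ((((x >>> d) ^^^ x) &&& m) <<< d) := rfl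

theorem delta_xor (x y d m : Nat) : delta (x ^^^ y) d m = delta x d m ^^^ delta y d m := by
  simp only [delta_eq]
  rw [Nat.shiftRight_xor_distrib]
  have e : ((x >>> d ^^^ y >>> d) ^^^ (x ^^^ y)) = ((x >>> d) ^^^ x) ^^^ ((y >>> d) ^^^ y) := by ac_rfl
  rw [e, Nat.and_xor_distrib_right, Nat.shiftLeft_xor_distrib]
  ac_rfl

theorem delta_zero (d m : Nat) : delta 0 d m = 0 := by
  simp [delta_eq]

/-- A network of bit swaps. -/
def net (l : List (Nat × Nat)) (x : Nat) : Nat :=
  List.rec (motive := fun _ => Nat → Nat) (fun x => x) (fun a _ ih x => ih (delta x a.1 a.2)) l x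

theorem net_nil (x : Nat) : net [] x = x := rfl

theorem net_cons (a : Nat × Nat) (l : List (Nat × Nat)) (x : Nat) : net (a :: l) x = net l (delta x a.1 a.2) := rfl

theorem net_xor (l : List (Nat × Nat)) (x y : Nat) : net l (x ^^^ y) = net l x ^^^ net l y := by
  induction l generalizing x y with
  | nil => rfl
  | cons a l ih => rw [net_cons, net_cons, net_cons, delta_xor, ih]

theorem net_zero (l : List (Nat × Nat)) : net l 0 = 0 := by
  induction l with
  | nil => rfl
  | cons a l ih => rw [net_cons, delta_zero, ih]

/-- A network that moves the single bits moves all bit vectors. -/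
theorem net_testBit (l : List (Nat × Nat)) {n : Nat} (g : Nat → Nat) (hg : ∀ v, v < n → net l (2 ^ v) = 2 ^ g v)
    (ginj : ∀ v w, v < n → w < n → g v = g w → v = w) (k : Nat) (hk : k ≤ n) (x : Nat) (hx : x < 2 ^ k) (v : Nat)
    (hv : v < n) : (net l x).testBit (g v) = x.testBit v := by
  induction k generalizing x with
  | zero =>
    have : x = 0 := by simpa using hx
    subst this
    simp [net_zero]
  | succ k ih =>
    have hk' : k < n := hk
    have hdec : x = (x % 2 ^ k) ^^^ (if x.testBit k then 2 ^ k else 0) := by
      apply Nat.eq_of_testBit_eq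
      intro i
      rw [Nat.testBit_xor, Nat.testBit_mod_two_pow]
      by_cases hb : x.testBit k
      · rw [if_pos hb, Nat.testBit_two_pow]
        rcases lt_trichotomy i k with h | h | h
        · have h1 : k ≠ i := by omega
          simp [h, h1]
        · subst h
          simp [hb]
        · have h1 : k ≠ i := by omega
          have h2 : ¬ i < k := by omega
          simp [h1, h2]
          exact Nat.testBit_lt_two_pow (by
            calc x < 2 ^ (k + 1) := hx
              _ ≤ 2 ^ i := Nat.pow_le_pow_right (by norm_num) h) |> fun h3 => by simpa using h3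
      · rw [if_neg hb, Nat.zero_testBit]
        rcases lt_trichotomy i k with h | h | h
        · simp [h]
        · subst h
          simp [hb]
        · have h2 : ¬ i < k := by omega
          simp [h2]
          exact Nat.testBit_lt_two_pow (by
            calc x < 2 ^ (k + 1) := hx
              _ ≤ 2 ^ i := Nat.pow_le_pow_right (by norm_num) h) |> fun h3 => by simpa using h3
    have hlt : x % 2 ^ k < 2 ^ k := Nat.mod_lt _ (by positivity)
    have hih := ih (Nat.le_of_lt hk') (x % 2 ^ k) hlt
    conv_lhs => rw [hdec]
    conv_rhs => rw [hdec]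
    rw [net_xor, Nat.testBit_xor, Nat.testBit_xor, hih]
    by_cases hb : x.testBit k
    · rw [if_pos hb, hg k hk', Nat.testBit_two_pow, Nat.testBit_two_pow]
      congr 1
      by_cases hvk : k = v
      · subst hvk
        simp
      · have h1 : g k ≠ g v := fun h => hvk (ginj _ _ hk' hv h)
        simp [h1, hvk]
    · rw [if_neg hb, net_zero]
      simp

/-! ### The automorphism group of a relation given by rows -/

section Aut

variable {n : Nat} (rows : Nat → Nat)

/-- The permutations preserving the relation. -/
def autG : Subgroup (Equiv.Perm (Fin n)) where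
  carrier := {f | ∀ u v : Fin n, (rows (f u)).testBit (f v) = (rows u).testBit v}
  one_mem' := fun _ _ => rfl
  mul_mem' := by
    intro f g hf hg u v
    rw [Equiv.Perm.mul_apply, Equiv.Perm.mul_apply, hf, hg]
  inv_mem' := by
    intro f hf u v
    have h := hf (f⁻¹ u) (f⁻¹ v)
    have e : ∀ a, f (f⁻¹ a) = a := fun a => f.apply_symm_apply a
    rw [e, e] at h
    exact h.symm

theorem mem_autG {f : Equiv.Perm (Fin n)} :
    f ∈ autG rows ↔ ∀ u v : Fin n, (rows (f u)).testBit (f v) = (rows u).testBit v := Iff.rfl

variable (n) in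
/-- The check that a permutation given by its table and a network preserves the relation. -/
def autChk (w m : Nat) (e : Elt) (l : List (Nat × Nat)) : Bool :=
  allB (fun v => Nat.beq (net l (2 ^ v)) (2 ^ get w m e.f v)) n &&
    allB (fun u => Nat.blt (rows u) (2 ^ n) && Nat.beq (net l (rows u)) (rows (get w m e.f u))) n

theorem mem_of_autChk {w m : Nat} {e : Elt} {l : List (Nat × Nat)} (hv : validB w m n e = true)
    (h : autChk n rows w m e l = true) : permOf w m n e ∈ autG rows := by
  simp only [autChk, Bool.and_eq_true, allB_iff, Nat.beq_eq, Nat.blt_eq] at h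
  obtain ⟨h1, h2⟩ := h
  have hv' := (validB_iff w m n e).1 hv
  intro u v
  rw [permOf_apply hv, permOf_apply hv]
  rw [← (h2 u u.2).2]
  refine net_testBit l (get w m e.f) h1 ?_ n le_rfl _ (h2 u u.2).1 v v.2
  intro a b ha hb hab
  have h3 := (hv' a ha).2.1
  have h4 := (hv' b hb).2.1
  rw [← h3, ← h4, hab]

/-! ### Masks invariant under a permutation -/

/-- The mask is preserved by the permutation. -/
def InvMask (f : Equiv.Perm (Fin n)) (M : Nat) : Prop := ∀ v : Fin n, M.testBit (f v) = M.testBit v

theorem invMask_zero (f : Equiv.Perm (Fin n)) : InvMask f 0 := fun v => by simp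

theorem invMask_two_pow {f : Equiv.Perm (Fin n)} (b : Fin n) (hb : f b = b) : InvMask f (2 ^ b.1) := by
  intro v
  rw [Nat.testBit_two_pow, Nat.testBit_two_pow]
  by_cases h : v = b
  · subst h
    rw [hb]
  · have h1 : f v ≠ b := fun h2 => h (f.injective (h2.trans hb.symm))
    have h2 : b.1 ≠ (f v).1 := fun h3 => h1 (Fin.ext h3.symm)
    have h3 : b.1 ≠ v.1 := fun h3 => h (Fin.ext h3.symm)
    simp [h2, h3]

theorem invMask_row {f : Equiv.Perm (Fin n)} (hf : f ∈ autG rows) (x : Fin n) (hx : f x = x) :
    InvMask f (rows x) := by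
  intro v
  have := hf x v
  rwa [hx] at this

theorem invMask_and {f : Equiv.Perm (Fin n)} {a b : Nat} (ha : InvMask f a) (hb : InvMask f b) :
    InvMask f (Nat.land a b) := by
  intro v
  have e : Nat.land a b = a &&& b := rfl
  rw [e, Nat.testBit_and, Nat.testBit_and, ha, hb]

theorem invMask_xor {f : Equiv.Perm (Fin n)} {a b : Nat} (ha : InvMask f a) (hb : InvMask f b) :
    InvMask f (Nat.xor a b) := by
  intro v
  have e : Nat.xor a b = a ^^^ b := rfl
  rw [e, Nat.testBit_xor, Nat.testBit_xor, ha, hb]

theorem invMask_univ (f : Equiv.Perm (Fin n)) : InvMask f (2 ^ n - 1) := by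
  intro v
  rw [Nat.testBit_two_pow_sub_one, Nat.testBit_two_pow_sub_one]
  simp

/-- The number of points in a mask. -/
def cntF (n : Nat) (M : Nat) : Nat := (Finset.univ.filter fun v : Fin n => M.testBit v = true).card

theorem cntF_row {f : Equiv.Perm (Fin n)} (hf : f ∈ autG rows) {S : Nat} (hS : InvMask f S) (v : Fin n) :
    cntF n (rows (f v) &&& S) = cntF n (rows v &&& S) := by
  symm
  unfold cntF
  apply Finset.card_equiv f
  intro w
  simp only [Finset.mem_filter, Finset.mem_univ, true_and, Nat.testBit_and, Bool.and_eq_true]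
  rw [hf v w, hS w]

end Aut

/-! ### Counting bits -/

/-- The mask with a bit at each multiple of 12 below 4104. -/
def spread : Nat := (2 ^ 4104 - 1) / 4095

theorem spread_chk1 : allB (fun i => tb spread (Nat.mul 12 i)) 342 = true := by decide +kernel

theorem spread_chk2 : allB (fun i => !(tb spread i) || Nat.beq (Nat.mod i 12) 0) 4104 = true := by decide +kernel

theorem spread_chk3 : Nat.blt spread (Nat.pow 2 4104) = true := by decide +kernel

theorem spread_testBit : ∀ i, i < 342 → spread.testBit (12 * i) = true := by
  intro i hi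
  rw [← tb_eq]
  exact (allB_iff _ _).mp spread_chk1 i hi

theorem spread_testBit' : ∀ i, i < 4104 → spread.testBit i = true → 12 ∣ i := by
  intro i hi h
  have h1 := (allB_iff _ _).mp spread_chk2 i hi
  rw [tb_eq, h, Bool.not_true, Bool.false_or, Nat.beq_eq] at h1
  exact Nat.dvd_of_mod_eq_zero h1

theorem spread_lt : spread < 2 ^ 4104 := by
  have h := spread_chk3
  rw [Nat.blt_eq] at h
  exact h

/-- One part of the bits. -/
def popPart (x j : Nat) : Nat := Nat.mod (Nat.land (Nat.shiftRight x j) spread) 4095

/-- The number of bits of a number below `2 ^ 4104`. -/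
def popc (x : Nat) : Nat :=
  Nat.add (popPart x 0) (Nat.add (popPart x 1) (Nat.add (popPart x 2) (Nat.add (popPart x 3)
    (Nat.add (popPart x 4) (Nat.add (popPart x 5) (Nat.add (popPart x 6) (Nat.add (popPart x 7)
      (Nat.add (popPart x 8) (Nat.add (popPart x 9) (Nat.add (popPart x 10) (popPart x 11)))))))))))

/-- The sum of the bits at the multiples of 12. -/
def sumB (y k : Nat) : Nat := ∑ i ∈ Finset.range k, (y.testBit (12 * i)).toNat

theorem sumB_modEq (k : Nat) : ∀ y, y < 2 ^ (12 * k) → (∀ i, y.testBit i = true → 12 ∣ i) →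
    y ≡ sumB y k [MOD 4095] := by
  induction k with
  | zero =>
    intro y hy _
    have : y = 0 := by simpa using hy
    subst this
    simp [sumB]
    rfl
  | succ k ih =>
    intro y hy hb
    have h0 : y % 2 ^ 12 = (y.testBit 0).toNat := by
      apply Nat.eq_of_testBit_eq
      intro i
      rw [Nat.testBit_mod_two_pow]
      cases i with
      | zero =>
        cases h : y.testBit 0 <;> simp [h]
      | succ j =>
        have h1 : (y.testBit 0).toNat.testBit (j + 1) = false := by
          cases y.testBit 0 <;> simp [Nat.testBit_succ]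
        rw [h1]
        by_cases h2 : j + 1 < 12
        · have h3 : y.testBit (j + 1) = false := by
            by_contra h4
            have h5 := hb (j + 1) (by simpa using h4)
            omega
          simp [h3]
        · simp [h2]
    have hdiv : y / 2 ^ 12 < 2 ^ (12 * k) := by
      rw [Nat.div_lt_iff_lt_mul (by positivity)]
      calc y < 2 ^ (12 * (k + 1)) := hy
        _ = 2 ^ (12 * k) * 2 ^ 12 := by rw [mul_add, pow_add, mul_one]
    have hbit : ∀ i, (y / 2 ^ 12).testBit i = y.testBit (i + 12) := by
      intro i
      rw [← Nat.shiftRight_eq_div_pow, Nat.testBit_shiftRight, add_comm]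
    have hih := ih (y / 2 ^ 12) hdiv (fun i hi => by
      rw [hbit] at hi
      have := hb _ hi
      omega)
    have hy2 : y = y % 2 ^ 12 + 2 ^ 12 * (y / 2 ^ 12) := (Nat.mod_add_div _ _).symm
    have hsum : sumB y (k + 1) = (y.testBit 0).toNat + sumB (y / 2 ^ 12) k := by
      unfold sumB
      rw [Finset.sum_range_succ']
      rw [add_comm]
      congr 1
      apply Finset.sum_congr rfl
      intro i _
      rw [hbit]
      congr 2
    rw [hsum, ← h0]
    have h4096 : (2 : Nat) ^ 12 ≡ 1 [MOD 4095] := by decide
    calc y = y % 2 ^ 12 + 2 ^ 12 * (y / 2 ^ 12) := hy2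
      _ ≡ y % 2 ^ 12 + 1 * sumB (y / 2 ^ 12) k [MOD 4095] :=
        Nat.ModEq.add_left _ (Nat.ModEq.mul h4096 hih)
      _ = y % 2 ^ 12 + sumB (y / 2 ^ 12) k := by rw [one_mul]

theorem sumB_le (y k : Nat) : sumB y k ≤ k := by
  unfold sumB
  calc ∑ i ∈ Finset.range k, (y.testBit (12 * i)).toNat ≤ ∑ _i ∈ Finset.range k, 1 :=
        Finset.sum_le_sum fun i _ => Bool.toNat_le _
    _ = k := by simp

theorem popPart_eq (x j : Nat) : popPart x j = sumB ((x >>> j) &&& spread) 342 := by
  have hlt : (x >>> j) &&& spread < 2 ^ (12 * 342) := by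
    refine lt_of_le_of_lt Nat.and_le_right ?_
    exact spread_lt
  have hb : ∀ i, ((x >>> j) &&& spread).testBit i = true → 12 ∣ i := by
    intro i hi
    rw [Nat.testBit_and, Bool.and_eq_true] at hi
    have hi4104 : i < 4104 := by
      by_contra h
      have h1 : spread.testBit i = false := Nat.testBit_lt_two_pow (lt_of_lt_of_le spread_lt
        (Nat.pow_le_pow_right (by norm_num) (by omega)))
      rw [h1] at hi
      exact Bool.noConfusion hi.2
    exact spread_testBit' i hi4104 hi.2
  have h := sumB_modEq 342 _ hlt hb
  have h2 : sumB ((x >>> j) &&& spread) 342 < 4095 := lt_of_le_of_lt (sumB_le _ _) (by norm_num)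
  have h3 : ((x >>> j) &&& spread) % 4095 = sumB ((x >>> j) &&& spread) 342 % 4095 := h
  rw [Nat.mod_eq_of_lt h2] at h3
  exact h3

theorem popPart_eq' (x j : Nat) :
    popPart x j = ∑ i ∈ Finset.range 342, (x.testBit (12 * i + j)).toNat := by
  rw [popPart_eq]
  unfold sumB
  apply Finset.sum_congr rfl
  intro i hi
  rw [Nat.testBit_and, Nat.testBit_shiftRight, spread_testBit i (Finset.mem_range.mp hi), Bool.and_true,
    add_comm j]

/-- Splitting a sum over a range according to residues modulo 12. -/
theorem sum_range_twelve (h : Nat → Nat) (k : Nat) :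
    ∑ v ∈ Finset.range (12 * k), h v =
      ∑ j ∈ Finset.range 12, ∑ i ∈ Finset.range k, h (12 * i + j) := by
  induction k with
  | zero => simp
  | succ k ih =>
    rw [mul_add, mul_one, Finset.sum_range_add, ih, ← Finset.sum_add_distrib]
    apply Finset.sum_congr rfl
    intro j _
    rw [Finset.sum_range_succ]

theorem popc_eq_sum (x : Nat) : popc x = ∑ v ∈ Finset.range 4104, (x.testBit v).toNat := by
  have h := sum_range_twelve (fun v => (x.testBit v).toNat) 342
  have e : (12 * 342 : Nat) = 4104 := by norm_num
  rw [e] at h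
  rw [h]
  simp only [← popPart_eq']
  simp only [Finset.sum_range_succ, Finset.sum_range_zero]
  show popPart x 0 + (popPart x 1 + (popPart x 2 + (popPart x 3 + (popPart x 4 + (popPart x 5 + (popPart x 6 +
    (popPart x 7 + (popPart x 8 + (popPart x 9 + (popPart x 10 + popPart x 11)))))))))) = _
  ring

theorem popc_eq {n : Nat} (hn : n ≤ 4104) {x : Nat} (hx : x < 2 ^ n) : popc x = cntF n x := by
  rw [popc_eq_sum, cntF, Finset.card_filter]
  rw [Fin.sum_univ_eq_sum_range (fun v => if x.testBit v = true then 1 else 0) n]
  have h1 : ∀ v, (x.testBit v).toNat = if x.testBit v = true then 1 else 0 := by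
    intro v
    cases x.testBit v <;> rfl
  simp only [h1]
  have h2 : Finset.range n ⊆ Finset.range 4104 := Finset.range_subset_range.mpr hn
  rw [← Finset.sum_subset h2]
  intro v _ hv
  have h3 : n ≤ v := by simpa using hv
  have h4 : x.testBit v = false := Nat.testBit_lt_two_pow (lt_of_lt_of_le hx
    (Nat.pow_le_pow_right (by norm_num) h3))
  simp [h4]

/-! ### Splitting a mask by counting neighbours -/

section Prog

variable (n : Nat) (rows : Nat → Nat)

/-- The loop of `splitM`. -/
def splitGo (C S k fuel i acc : Nat) : Nat :=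
  Nat.rec (motive := fun _ => Nat → Nat → Nat) (fun _ acc => acc)
    (fun _ ih i acc =>
      bif (tb C i && Nat.beq (popc (Nat.land (rows i) S)) k) then
        force (Nat.lor acc (Nat.shiftLeft 1 i)) (fun a => ih (Nat.succ i) a)
      else ih (Nat.succ i) acc) fuel i acc

theorem splitGo_testBit (C S k fuel : Nat) : ∀ i acc v, (splitGo rows C S k fuel i acc).testBit v =
    (acc.testBit v || (decide (i ≤ v) && decide (v < i + fuel) && C.testBit v &&
      Nat.beq (popc (Nat.land (rows v) S)) k)) := by
  induction fuel with
  | zero =>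
    intro i acc v
    have h : splitGo rows C S k 0 i acc = acc := rfl
    rw [h]
    have : ¬ (i ≤ v ∧ v < i + 0) := by omega
    by_cases h1 : i ≤ v
    · have h2 : ¬ v < i + 0 := by omega
      simp [h2]
    · simp [h1]
  | succ fuel ih =>
    intro i acc v
    have h : splitGo rows C S k (fuel + 1) i acc =
        bif (tb C i && Nat.beq (popc (Nat.land (rows i) S)) k) then
          force (Nat.lor acc (Nat.shiftLeft 1 i)) (fun a => splitGo rows C S k fuel (Nat.succ i) a)
        else splitGo rows C S k fuel (Nat.succ i) acc := rfl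
    rw [h, force_eq]
    have hlor : Nat.lor acc (Nat.shiftLeft 1 i) = acc ||| (1 <<< i) := rfl
    cases hc : (tb C i && Nat.beq (popc (Nat.land (rows i) S)) k) with
    | true =>
      simp only [cond_true]
      rw [ih, hlor, Nat.testBit_or, Nat.one_shiftLeft, Nat.testBit_two_pow]
      rw [Bool.and_eq_true, tb_eq] at hc
      by_cases hv : v = i
      · subst hv
        have hc2 : Nat.beq (popc (Nat.land (rows v) S)) k = true := hc.2
        have e2 : (decide (v ≤ v) && decide (v < v + (fuel + 1)) && C.testBit v &&
            Nat.beq (popc (Nat.land (rows v) S)) k) = true := by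
          rw [hc2, hc.1]
          simp
        rw [e2]
        simp
      · have h1 : i ≠ v := fun h => hv h.symm
        have h2 : (i + 1 ≤ v) = (i ≤ v) := by
          apply propext
          omega
        have h3 : (v < i + 1 + fuel) = (v < i + (fuel + 1)) := by
          apply propext
          omega
        simp [h1, Nat.succ_eq_add_one, h2, h3]
    | false =>
      simp only [cond_false]
      rw [ih]
      by_cases hv : v = i
      · subst hv
        rw [← tb_eq C v]
        have hc' : (tb C v && Nat.beq (popc (Nat.land (rows v) S)) k) = false := hc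
        have e1 : (decide (v.succ ≤ v) && decide (v < v.succ + fuel) && tb C v &&
            Nat.beq (popc (Nat.land (rows v) S)) k) = false := by simp
        have e2 : (decide (v ≤ v) && decide (v < v + (fuel + 1)) && tb C v &&
            Nat.beq (popc (Nat.land (rows v) S)) k) =
            (tb C v && Nat.beq (popc (Nat.land (rows v) S)) k) := by simp
        rw [e1, e2, hc']
      · have h2 : (i + 1 ≤ v) = (i ≤ v) := by
          apply propext
          omega
        have h3 : (v < i + 1 + fuel) = (v < i + (fuel + 1)) := by
          apply propext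
          omega
        simp [Nat.succ_eq_add_one, h2, h3]

/-- The points of the mask `C` having exactly `k` neighbours in the mask `S`. -/
def splitM (C S k : Nat) : Nat := splitGo rows C S k n 0 0

theorem splitM_testBit (C S k v : Nat) : (splitM n rows C S k).testBit v =
    (decide (v < n) && C.testBit v && Nat.beq (popc (Nat.land (rows v) S)) k) := by
  unfold splitM
  rw [splitGo_testBit]
  simp

variable {n rows}

theorem invMask_split (hn : n ≤ 4104) (hr : ∀ u, u < n → rows u < 2 ^ n) {f : Equiv.Perm (Fin n)}
    (hf : f ∈ autG rows) {C S : Nat} (hC : InvMask f C) (hS : InvMask f S) (k : Nat) :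
    InvMask f (splitM n rows C S k) := by
  intro v
  rw [splitM_testBit, splitM_testBit, hC v]
  have hlt : ∀ u : Fin n, Nat.land (rows u) S < 2 ^ n := fun u =>
    lt_of_le_of_lt Nat.and_le_left (hr u u.2)
  have e : ∀ u : Fin n, popc (Nat.land (rows u) S) = cntF n (rows u &&& S) := fun u => popc_eq hn (hlt u)
  rw [e, e]
  have : cntF n (rows (f v) &&& S) = cntF n (rows v &&& S) := cntF_row rows hf hS v
  rw [this]
  simp

/-! ### Programs computing invariant masks -/

/-- The instructions. -/
inductive Ins where
  | pt (b : Nat)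
  | row (i x : Nat)
  | andI (i j : Nat)
  | diffI (i j : Nat)
  | split (i j k : Nat)

/-- Entry of a list, or 0. -/
def memAt (mem : List Nat) (i : Nat) : Nat :=
  List.rec (motive := fun _ => Nat → Nat) (fun _ => 0) (fun a _ ih k => Nat.rec a (fun j _ => ih j) k) mem i

theorem memAt_cons_succ (a : Nat) (l : List Nat) (i : Nat) : memAt (a :: l) (i + 1) = memAt l i := rfl

theorem memAt_cases {P : Nat → Prop} (h0 : P 0) {l : List Nat} (hl : ∀ a ∈ l, P a) (i : Nat) : P (memAt l i) := by
  induction l generalizing i with
  | nil => exact h0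
  | cons a l ih =>
    cases i with
    | zero => exact hl a (by simp)
    | succ j =>
      rw [memAt_cons_succ]
      exact ih (fun b hb => hl b (by simp [hb])) j

/-- Entry of a list of lists, or the empty list. -/
def nthL (l : List (List Nat)) (k : Nat) : List Nat :=
  List.rec (motive := fun _ => Nat → List Nat) (fun _ => []) (fun a _ ih k => Nat.rec a (fun j _ => ih j) k) l k

theorem nthL_cases {P : List Nat → Prop} (h0 : P []) {l : List (List Nat)} (hl : ∀ a ∈ l, P a) (i : Nat) :
    P (nthL l i) := by
  induction l generalizing i with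
  | nil => exact h0
  | cons a l ih =>
    cases i with
    | zero => exact hl a (by simp)
    | succ j => exact ih (fun b hb => hl b (by simp [hb])) j

/-- Membership in a list. -/
def elemN (l : List Nat) (b : Nat) : Bool :=
  List.rec (motive := fun _ => Bool) false (fun a _ ih => bif Nat.beq a b then true else ih) l

theorem mem_of_elemN {l : List Nat} {b : Nat} (h : elemN l b = true) : b ∈ l := by
  induction l with
  | nil => exact Bool.noConfusion h
  | cons a l ih =>
    have h1 : elemN (a :: l) b = bif Nat.beq a b then true else elemN l b := rfl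
    rw [h1] at h
    cases h2 : Nat.beq a b with
    | true =>
      rw [Nat.beq_eq] at h2
      simp [h2]
    | false =>
      rw [h2] at h
      exact List.mem_cons_of_mem _ (ih h)

variable (n rows) in
/-- The result of an instruction. -/
def stepI (bs : List Nat) (mem : List Nat) : Ins → Nat
  | .pt b => bif (Nat.blt b n && elemN bs b) then Nat.shiftLeft 1 b else 0
  | .row i x => bif (Nat.blt x n && Nat.beq (memAt mem i) (Nat.shiftLeft 1 x)) then rows x else 0
  | .andI i j => Nat.land (memAt mem i) (memAt mem j)
  | .diffI i j => (fun a => Nat.xor a (Nat.land a (memAt mem j))) (memAt mem i)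
  | .split i j k => splitM n rows (memAt mem i) (memAt mem j) k

variable (n rows) in
/-- Run a program, pushing the results on the memory. -/
def exec (bs : List Nat) (P : List Ins) (mem : List Nat) : List Nat :=
  List.rec (motive := fun _ => List Nat → List Nat) (fun mem => mem)
    (fun ins _ ih mem => force (stepI n rows bs mem ins) (fun r => ih (r :: mem))) P mem

/-- The permutation fixes the points of a list. -/
def FixL (f : Equiv.Perm (Fin n)) (bs : List Nat) : Prop :=
  ∀ b ∈ bs, ∀ hb : b < n, f ⟨b, hb⟩ = ⟨b, hb⟩

theorem shift_one (b : Nat) : Nat.shiftLeft 1 b = 2 ^ b := by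
  show 1 <<< b = _
  rw [Nat.one_shiftLeft]

theorem fix_of_invMask_two_pow {f : Equiv.Perm (Fin n)} {h : Nat} (h1 : h < n) (hinv : InvMask f (2 ^ h)) :
    f ⟨h, h1⟩ = ⟨h, h1⟩ := by
  have h3 := hinv ⟨h, h1⟩
  rw [Nat.testBit_two_pow, Nat.testBit_two_pow] at h3
  simp only [decide_true, decide_eq_true_eq] at h3
  exact Fin.ext h3.symm

theorem stepI_inv (hn : n ≤ 4104) (hr : ∀ u, u < n → rows u < 2 ^ n) {f : Equiv.Perm (Fin n)}
    (hf : f ∈ autG rows) {bs mem : List Nat} (hbs : FixL f bs) (hmem : ∀ a ∈ mem, InvMask f a) (ins : Ins) :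
    InvMask f (stepI n rows bs mem ins) := by
  have hat : ∀ i, InvMask f (memAt mem i) := memAt_cases (invMask_zero f) hmem
  cases ins with
  | pt b =>
    show InvMask f (bif (Nat.blt b n && elemN bs b) then Nat.shiftLeft 1 b else 0)
    cases hb : (Nat.blt b n && elemN bs b) with
    | false => exact invMask_zero f
    | true =>
      rw [Bool.and_eq_true, Nat.blt_eq] at hb
      simp only [cond_true]
      rw [shift_one]
      exact invMask_two_pow ⟨b, hb.1⟩ (hbs b (mem_of_elemN hb.2) hb.1)
  | row i h =>
    show InvMask f (bif (Nat.blt h n && Nat.beq (memAt mem i) (Nat.shiftLeft 1 h)) then rows h else 0)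
    cases hb : (Nat.blt h n && Nat.beq (memAt mem i) (Nat.shiftLeft 1 h)) with
    | false => exact invMask_zero f
    | true =>
      simp only [cond_true]
      rw [Bool.and_eq_true, Nat.blt_eq, Nat.beq_eq, shift_one] at hb
      obtain ⟨h1, h2⟩ := hb
      have hinv : InvMask f (2 ^ h) := h2 ▸ hat i
      exact invMask_row rows hf ⟨h, h1⟩ (fix_of_invMask_two_pow h1 hinv)
  | andI i j => exact invMask_and (hat i) (hat j)
  | diffI i j => exact invMask_xor (hat i) (invMask_and (hat i) (hat j))
  | split i j k => exact invMask_split hn hr hf (hat i) (hat j) k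

theorem exec_inv (hn : n ≤ 4104) (hr : ∀ u, u < n → rows u < 2 ^ n) {f : Equiv.Perm (Fin n)}
    (hf : f ∈ autG rows) {bs : List Nat} (hbs : FixL f bs) (P : List Ins) :
    ∀ mem : List Nat, (∀ a ∈ mem, InvMask f a) → ∀ a ∈ exec n rows bs P mem, InvMask f a := by
  induction P with
  | nil => exact fun mem h => h
  | cons ins P ih =>
    intro mem hmem
    have h1 : exec n rows bs (ins :: P) mem = force (stepI n rows bs mem ins)
        (fun r => exec n rows bs P (r :: mem)) := rfl
    rw [h1, force_eq]
    apply ih
    intro a ha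
    rcases List.mem_cons.mp ha with rfl | ha
    · exact stepI_inv hn hr hf hbs hmem ins
    · exact hmem a ha

variable (n rows) in
/-- The memory after running a program from the full mask. -/
def runP (bs : List Nat) (P : List Ins) : List Nat := exec n rows bs P [Nat.sub (Nat.pow 2 n) 1]

theorem runP_inv (hn : n ≤ 4104) (hr : ∀ u, u < n → rows u < 2 ^ n) {f : Equiv.Perm (Fin n)}
    (hf : f ∈ autG rows) {bs : List Nat} (hbs : FixL f bs) (P : List Ins) :
    ∀ a ∈ runP n rows bs P, InvMask f a := by
  apply exec_inv hn hr hf hbs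
  intro a ha
  rw [List.mem_singleton] at ha
  subst ha
  exact invMask_univ f

/-! ### Separation of the points by masks -/

/-- A mask with at most one point. -/
def leafB (M : Nat) : Bool := Nat.beq (Nat.land M (Nat.sub M 1)) 0

theorem eq_of_leafB {M : Nat} (h : leafB M = true) {a b : Nat} (ha : M.testBit a = true) (hb : M.testBit b = true) :
    a = b := by
  have key : ∀ a b : Nat, a < b → M.testBit a = true → M.testBit b = true → False := by
    intro a b hab ha hb
    have h0 : M &&& (M - 1) = 0 := by
      rw [leafB, Nat.beq_eq] at h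
      exact h
    have hr : 0 < M % 2 ^ b := by
      rcases Nat.eq_zero_or_pos (M % 2 ^ b) with h1 | h1
      · exfalso
        have h2 : (M % 2 ^ b).testBit a = true := by
          rw [Nat.testBit_mod_two_pow]
          simp [hab, ha]
        rw [h1] at h2
        simp at h2
      · exact h1
    have hdiv : (M - 1) / 2 ^ b = M / 2 ^ b := by
      have hM : M = 2 ^ b * (M / 2 ^ b) + M % 2 ^ b := (Nat.div_add_mod _ _).symm
      have hlt : M % 2 ^ b < 2 ^ b := Nat.mod_lt _ (by positivity)
      have h3 : M - 1 = 2 ^ b * (M / 2 ^ b) + (M % 2 ^ b - 1) := by omega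
      conv_lhs => rw [h3]
      have h6 : (M % 2 ^ b - 1) / 2 ^ b = 0 := Nat.div_eq_of_lt (Nat.lt_of_le_of_lt (Nat.sub_le _ _) hlt)
      rw [Nat.mul_add_div (by positivity), h6, add_zero]
    have h4 : (M - 1).testBit b = true := by
      rw [Nat.testBit_eq_decide_div_mod_eq] at hb ⊢
      rw [hdiv]
      exact hb
    have h5 : (M &&& (M - 1)).testBit b = true := by
      rw [Nat.testBit_and, hb, h4]
      rfl
    rw [h0] at h5
    simp at h5
  rcases lt_trichotomy a b with h1 | h1 | h1
  · exact (key a b h1 ha hb).elim
  · exact h1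
  · exact (key b a h1 hb ha).elim

/-- All nodes of the tree of intersections with the masks have at most one point. -/
def sep (l : List Nat) (M : Nat) : Bool :=
  List.rec (motive := fun _ => Nat → Bool)
    (fun M => leafB M)
    (fun r _ ih M => leafB M || (ih (Nat.land M r) && ih (Nat.xor M (Nat.land M r)))) l M

theorem eq_of_sep (l : List Nat) : ∀ M, sep l M = true → ∀ a b : Nat, M.testBit a = true → M.testBit b = true →
    (∀ r ∈ l, r.testBit a = r.testBit b) → a = b := by
  induction l with
  | nil =>
    intro M h a b ha hb _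
    exact eq_of_leafB h ha hb
  | cons r l ih =>
    intro M h a b ha hb hr
    have h1 : sep (r :: l) M = (leafB M || (sep l (Nat.land M r) && sep l (Nat.xor M (Nat.land M r)))) := rfl
    rw [h1, Bool.or_eq_true] at h
    rcases h with h | h
    · exact eq_of_leafB h ha hb
    · rw [Bool.and_eq_true] at h
      have hrab := hr r (by simp)
      have hl : ∀ r' ∈ l, r'.testBit a = r'.testBit b := fun r' h' => hr r' (by simp [h'])
      have e1 : Nat.land M r = M &&& r := rfl
      have e2 : Nat.xor M (Nat.land M r) = M ^^^ (M &&& r) := rfl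
      cases hra : r.testBit a with
      | true =>
        have hrb : r.testBit b = true := by rw [← hrab, hra]
        refine ih _ h.1 a b ?_ ?_ hl
        · rw [e1, Nat.testBit_and, ha, hra]; rfl
        · rw [e1, Nat.testBit_and, hb, hrb]; rfl
      | false =>
        have hrb : r.testBit b = false := by rw [← hrab, hra]
        refine ih _ h.2 a b ?_ ?_ hl
        · rw [e2, Nat.testBit_xor, Nat.testBit_and, ha, hra]; rfl
        · rw [e2, Nat.testBit_xor, Nat.testBit_and, hb, hrb]; rfl

/-- A program separating all points shows that the permutation is the identity. -/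
theorem eq_one_of_sep (hn : n ≤ 4104) (hr : ∀ u, u < n → rows u < 2 ^ n) {f : Equiv.Perm (Fin n)}
    (hf : f ∈ autG rows) {bs : List Nat} (hbs : FixL f bs) {P : List Ins}
    (h : sep (runP n rows bs P) (Nat.sub (Nat.pow 2 n) 1) = true) : f = 1 := by
  ext v
  have hinv := runP_inv hn hr hf hbs P
  have h1 : ∀ u : Fin n, (Nat.sub (Nat.pow 2 n) 1).testBit u = true := by
    intro u
    have e : Nat.sub (Nat.pow 2 n) 1 = 2 ^ n - 1 := rfl
    rw [e, Nat.testBit_two_pow_sub_one]
    simp
  exact eq_of_sep _ _ h _ _ (h1 _) (h1 _) (fun r hr' => hinv r hr' v)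

end Prog

/-! ### Bounds for the order through orbits -/

section Card

variable {n : Nat}

/-- Orbit-stabiliser for a subgroup of the symmetric group. -/
theorem card_eq_orbit_mul (G : Subgroup (Equiv.Perm (Fin n))) (b : Fin n) :
    Nat.card G = (orbit G b).ncard * Nat.card ↥(G ⊓ stabilizer (Equiv.Perm (Fin n)) b) := by
  have h1 := (stabilizer G b).card_mul_index
  rw [index_stabilizer] at h1
  rw [← h1, mul_comm]
  congr 1
  apply Nat.card_congr
  exact {
    toFun := fun x => ⟨x.1.1, x.1.2, x.2⟩
    invFun := fun x => ⟨⟨x.1, x.2.1⟩, x.2.2⟩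
    left_inv := fun _ => rfl
    right_inv := fun _ => rfl }

/-- The upper bound from an invariant mask. -/
theorem card_le_of_invMask (hn : n ≤ 4104) (G : Subgroup (Equiv.Perm (Fin n))) (b : Fin n) {M : Nat}
    (hM : ∀ f ∈ G, InvMask f M) (hb : M.testBit b = true) (hlt : M < 2 ^ n) :
    Nat.card G ≤ popc M * Nat.card ↥(G ⊓ stabilizer (Equiv.Perm (Fin n)) b) := by
  rw [card_eq_orbit_mul G b]
  apply Nat.mul_le_mul_right
  rw [popc_eq hn hlt, cntF, ← Set.ncard_coe_finset]
  apply Set.ncard_le_ncard _ (Finset.finite_toSet _)
  rintro _ ⟨g, rfl⟩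
  simp only [Finset.coe_filter, Finset.mem_univ, true_and, Set.mem_setOf_eq]
  have := hM g.1 g.2 b
  rw [hb] at this
  exact this

/-- The lower bound from reachable points. -/
theorem card_ge_of_reach (hn : n ≤ 4104) (G : Subgroup (Equiv.Perm (Fin n))) (b : Fin n) {M : Nat}
    (hM : ∀ v : Fin n, M.testBit v = true → ∃ g ∈ G, g b = v) (hlt : M < 2 ^ n) :
    popc M * Nat.card ↥(G ⊓ stabilizer (Equiv.Perm (Fin n)) b) ≤ Nat.card G := by
  rw [card_eq_orbit_mul G b]
  apply Nat.mul_le_mul_right
  rw [popc_eq hn hlt, cntF, ← Set.ncard_coe_finset]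
  apply Set.ncard_le_ncard _ (Set.toFinite _)
  intro v hv
  simp only [Finset.coe_filter, Finset.mem_univ, true_and, Set.mem_setOf_eq] at hv
  obtain ⟨g, hg, hgv⟩ := hM v hv
  exact ⟨⟨g, hg⟩, hgv⟩

end Card

/-! ### Trees of images -/

section Tree

/-- The loop checking a tree of images: each entry of the table is a point, its parent and a letter. -/
def treeGo (act : Nat → Nat → Nat) (T fuel i seen : Nat) : Nat :=
  Nat.rec (motive := fun _ => Nat → Nat → Nat) (fun _ seen => seen)
    (fun _ ih i seen =>
      (fun e =>
        (fun x p c =>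
          bif (tb seen p && Nat.beq (act c p) x) then
            force (Nat.lor seen (Nat.shiftLeft 1 x)) (fun s => ih (Nat.succ i) s)
          else 0)
          (Nat.land e 4095) (Nat.land (Nat.shiftRight e 12) 4095) (Nat.shiftRight e 24))
        (get 32 4294967295 T i))
    fuel i seen

/-- All points of the result of the check are reached. -/
theorem treeGo_reach {R : Nat → Prop} {act : Nat → Nat → Nat} (hact : ∀ c p, R p → R (act c p)) (T fuel : Nat) :
    ∀ i seen, (∀ y, seen.testBit y = true → R y) → ∀ y, (treeGo act T fuel i seen).testBit y = true → R y := by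
  induction fuel with
  | zero => exact fun i seen h => h
  | succ fuel ih =>
    intro i seen hs y hy
    have h1 : treeGo act T (fuel + 1) i seen =
      (fun e =>
        (fun x p c =>
          bif (tb seen p && Nat.beq (act c p) x) then
            force (Nat.lor seen (Nat.shiftLeft 1 x)) (fun s => treeGo act T fuel (Nat.succ i) s)
          else 0)
          (Nat.land e 4095) (Nat.land (Nat.shiftRight e 12) 4095) (Nat.shiftRight e 24))
        (get 32 4294967295 T i) := rfl
    rw [h1] at hy
    simp only at hy
    generalize Nat.land (get 32 4294967295 T i) 4095 = x at hy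
    generalize Nat.land (Nat.shiftRight (get 32 4294967295 T i) 12) 4095 = p at hy
    generalize Nat.shiftRight (get 32 4294967295 T i) 24 = c at hy
    cases hc : (tb seen p && Nat.beq (act c p) x) with
    | false =>
      rw [hc] at hy
      simp at hy
    | true =>
      rw [hc] at hy
      simp only [cond_true, force_eq] at hy
      rw [Bool.and_eq_true, tb_eq, Nat.beq_eq] at hc
      refine ih _ _ ?_ y hy
      intro z hz
      have e : Nat.lor seen (Nat.shiftLeft 1 x) = seen ||| 2 ^ x := by
        rw [shift_one]
        rfl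
      rw [e, Nat.testBit_or, Bool.or_eq_true, Nat.testBit_two_pow] at hz
      rcases hz with hz | hz
      · exact hs z hz
      · have : x = z := by simpa using hz
        subst this
        rw [← hc.2]
        exact hact c p (hs p hc.1)

end Tree

/-! ### Trees of words -/

section Reach

variable {w m n : Nat}

/-- The points of the result of a tree check are images of the root under the group. -/
theorem reach_of_tree {gens : List Elt} (hg : gens.all (validB w m n) = true) {H : Subgroup (Equiv.Perm (Fin n))}
    (W : Nat → List Nat) (hW : ∀ c, wordPerm w m n gens (W c) ∈ H) (root : Fin n) (act : Nat → Nat → Nat)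
    (hact : ∀ c p, act c p = wordFn w m gens (W c) p) (T fuel : Nat) (v : Fin n)
    (hv : (treeGo act T fuel 0 (Nat.shiftLeft 1 root)).testBit v = true) : ∃ g ∈ H, g root = v := by
  have key := treeGo_reach (R := fun y => ∃ hy : y < n, ∃ g ∈ H, g root = ⟨y, hy⟩) (act := act) ?_ T fuel 0
    (Nat.shiftLeft 1 root) ?_ v hv
  · obtain ⟨_, g, hg', e⟩ := key
    exact ⟨g, hg', e⟩
  · rintro c p ⟨hp, g, hgH, e⟩
    have h1 := wordFn_eq hg (W c) ⟨p, hp⟩
    have h2 : act c p < n := by
      rw [hact, show p = ((⟨p, hp⟩ : Fin n) : Nat) from rfl, h1]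
      exact Fin.is_lt _
    refine ⟨h2, wordPerm w m n gens (W c) * g, H.mul_mem (hW c) hgH, ?_⟩
    rw [Equiv.Perm.mul_apply, e]
    apply Fin.ext
    show _ = act c p
    rw [hact]
    exact h1.symm
  · intro y hy
    rw [shift_one, Nat.testBit_two_pow] at hy
    have hy' : root.1 = y := by simpa using hy
    subst hy'
    exact ⟨root.2, 1, H.one_mem, rfl⟩

end Reach

/-! ### Primitivity for an action on an abstract set -/

section Prim

open scoped Pointwise

/-- Primitivity from a partition into orbits of a subgroup of the stabilizer of a point, and arithmetic. -/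
theorem preprimitive_of_classes' {G V : Type*} [Group G] [Fintype V] [MulAction G V] [IsPretransitive G V] (a : V)
    (K : Subgroup G) (hKa : ∀ k ∈ K, k • a = a) {m : ℕ} (cl : V → Fin m)
    (hconn : ∀ x y, cl x = cl y → ∃ k ∈ K, k • x = y) (sz : Fin m → ℕ)
    (hsz : ∀ c, (Finset.univ.filter fun x => cl x = c).card = sz c)
    (harith : ∀ J : Finset (Fin m), cl a ∈ J → (∑ c ∈ J, sz c) ∣ Nat.card V →
      (∑ c ∈ J, sz c) = 1 ∨ (∑ c ∈ J, sz c) = Nat.card V) :
    IsPreprimitive G V := by
  classical
  refine IsPreprimitive.of_isTrivialBlock_base a ?_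
  intro B haB hB
  have hinv : ∀ k ∈ K, ∀ x ∈ B, k • x ∈ B := by
    intro k hk x hx
    have h1 : k • B = B := by
      refine (isBlock_iff_smul_eq_of_mem.mp hB) haB ?_
      rw [hKa k hk]
      exact haB
    have h2 : k • x ∈ k • B := Set.smul_mem_smul_set hx
    rw [h1] at h2
    exact h2
  let J : Finset (Fin m) := Finset.univ.filter fun c => ∃ x ∈ B, cl x = c
  have hB' : ∀ x, x ∈ B ↔ cl x ∈ J := by
    intro x
    constructor
    · intro hx
      exact Finset.mem_filter.mpr ⟨Finset.mem_univ _, x, hx, rfl⟩
    · intro hx
      obtain ⟨y, hy, hyx⟩ := (Finset.mem_filter.mp hx).2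
      obtain ⟨k, hk, hkx⟩ := hconn y x hyx
      rw [← hkx]
      exact hinv k hk y hy
  have hcard : B.ncard = ∑ c ∈ J, sz c := by
    have h1 : B = ((Finset.univ.filter fun x => cl x ∈ J : Finset V) : Set V) := by
      ext x
      simp [hB']
    rw [h1, Set.ncard_coe_finset, Finset.card_eq_sum_card_fiberwise (f := cl) (t := J)]
    · apply Finset.sum_congr rfl
      intro c hc
      rw [← hsz c]
      congr 1
      ext x
      simp only [Finset.mem_filter, Finset.mem_univ, true_and]
      constructor
      · rintro ⟨_, h⟩
        exact h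
      · intro h
        exact ⟨h ▸ hc, h⟩
    · intro x hx
      exact (Finset.mem_filter.mp hx).2
  have hdvd : B.ncard ∣ Nat.card V := IsBlock.ncard_dvd_card hB ⟨a, haB⟩
  rw [hcard] at hdvd
  rcases harith J ((hB' a).mp haB) hdvd with h | h
  · left
    rw [← hcard] at h
    exact Set.ncard_le_one_iff_subsingleton.mp (by omega)
  · right
    rw [← hcard] at h
    apply Set.eq_of_subset_of_ncard_le (Set.subset_univ _)
    rw [h, Set.ncard_univ]

end Prim

end Cfsg.Agent.Lib.Compute.Ru.Core
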