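import Cfsg.Agent.Lib.Compute.Ru.RowsA
import Cfsg.Agent.Lib.Compute.Ru.RowsR
import Cfsg.Agent.Lib.Compute.Ru.Data

/-!
# The groups of degree 4060
-/

set_option autoImplicit false

namespace Cfsg.Agent.Lib.Compute.Ru.Defs

open Cfsg.Agent.Lib.Compute.PermCert Cfsg.Agent.Lib.Compute.Ru.Core
open Cfsg.Agent.Lib.Compute.Ru.Data Cfsg.Agent.Lib.Compute.Ru.RowsA Cfsg.Agent.Lib.Compute.Ru.RowsR

/-- The degree. -/
abbrev deg : Nat := 4060

/-- The generators of the big group. -/
abbrev gensP : List Elt := [eg1, eg2]
/-- The generators of the small group. -/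
abbrev gensT : List Elt := [et1, et2]
/-- The big group. -/
abbrev P : Subgroup (Equiv.Perm (Fin deg)) := genGroup 12 4095 deg gensP
/-- The small group. -/
abbrev T : Subgroup (Equiv.Perm (Fin deg)) := genGroup 12 4095 deg gensT
/-- The automorphisms of the graph. -/
abbrev A : Subgroup (Equiv.Perm (Fin deg)) := autG (n := deg) raAt
/-- The automorphisms of the second relation. -/
abbrev AR : Subgroup (Equiv.Perm (Fin deg)) := autG (n := deg) rrAt

/-- Words in the big group acting on points. -/
abbrev wfP : List Nat → Nat → Nat := wordFn 12 4095 gensP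
/-- Words in the small group acting on points. -/
abbrev wfT : List Nat → Nat → Nat := wordFn 12 4095 gensT

end Cfsg.Agent.Lib.Compute.Ru.Defs
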