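import Cfsg.Agent.Lib.Compute.Ru.Check1
import Cfsg.Agent.Lib.Compute.Ru.Check2

/-!
# The group of degree 4060

The group `P` generated by two permutations of order 29 preserves a strongly regular graph on 4060 points, and the small group
`T`, generated by two permutations of order 13, fixes a point and preserves a further relation.  Their orders are determined by
colour refinement from above, and by trees of images from below.
-/

set_option autoImplicit false
set_option exponentiation.threshold 5000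

namespace Cfsg.Agent.Lib.Compute.Ru.Main

open MulAction
open Cfsg.Agent.Lib.Compute.PermCert Cfsg.Agent.Lib.Compute.PermSimple Cfsg.Agent.Lib.Compute.Ru.Core
open Cfsg.Agent.Lib.Compute.Ru.Data Cfsg.Agent.Lib.Compute.Ru.RowsA Cfsg.Agent.Lib.Compute.Ru.RowsR
open Cfsg.Agent.Lib.Compute.Ru.Defs Cfsg.Agent.Lib.Compute.Ru.Check1 Cfsg.Agent.Lib.Compute.Ru.Check2

theorem hn : deg ≤ 4104 := by norm_num

theorem hrA : ∀ u, u < deg → raAt u < 2 ^ deg := by
  intro u hu
  have h := aut_g1
  simp only [autChk, Bool.and_eq_true, allB_iff, Nat.blt_eq] at h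
  exact (h.2 u hu).1

theorem hrR : ∀ u, u < deg → rrAt u < 2 ^ deg := by
  intro u hu
  have h := aut_t1
  simp only [autChk, Bool.and_eq_true, allB_iff, Nat.blt_eq] at h
  exact (h.2 u hu).1

theorem valid_g1 : validB 12 4095 deg eg1 = true := List.all_eq_true.mp valid_P _ (by simp)
theorem valid_g2 : validB 12 4095 deg eg2 = true := List.all_eq_true.mp valid_P _ (by simp)
theorem valid_t1 : validB 12 4095 deg et1 = true := List.all_eq_true.mp valid_T _ (by simp)
theorem valid_t2 : validB 12 4095 deg et2 = true := List.all_eq_true.mp valid_T _ (by simp)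

theorem P_le_A : P ≤ A := by
  refine (Subgroup.closure_le _).mpr ?_
  rintro _ ⟨e, he, rfl⟩
  rcases List.mem_cons.mp he with rfl | he
  · exact mem_of_autChk raAt valid_g1 aut_g1
  · rcases List.mem_singleton.mp he with rfl
    exact mem_of_autChk raAt valid_g2 aut_g2

theorem T_le_AR : T ≤ AR := by
  refine (Subgroup.closure_le _).mpr ?_
  rintro _ ⟨e, he, rfl⟩
  rcases List.mem_cons.mp he with rfl | he
  · exact mem_of_autChk rrAt valid_t1 aut_t1
  · rcases List.mem_singleton.mp he with rfl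
    exact mem_of_autChk rrAt valid_t2 aut_t2

theorem T_le_P : T ≤ P := by
  refine (Subgroup.closure_le _).mpr ?_
  rintro _ ⟨e, he, rfl⟩
  rcases List.mem_cons.mp he with rfl | he
  · exact wordCheck_mem valid_P valid_t1 word_t1
  · rcases List.mem_singleton.mp he with rfl
    exact wordCheck_mem valid_P valid_t2 word_t2

theorem T_le_A : T ≤ A := T_le_P.trans P_le_A

/-- Points. -/
abbrev p0 : Fin deg := ⟨0, by decide⟩
/-- Points. -/
abbrev p1 : Fin deg := ⟨1, by decide⟩
/-- Points. -/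
abbrev p2 : Fin deg := ⟨2, by decide⟩
/-- Points. -/
abbrev p5 : Fin deg := ⟨5, by decide⟩
/-- Points. -/
abbrev px : Fin deg := ⟨2305, by decide⟩

/-- The stabilizer of a point. -/
abbrev Stb (b : Fin deg) : Subgroup (Equiv.Perm (Fin deg)) := stabilizer (Equiv.Perm (Fin deg)) b

theorem mem_Stb {f : Equiv.Perm (Fin deg)} {b : Fin deg} : f ∈ Stb b ↔ f b = b := Iff.rfl

/-! ### The upper bound -/

/-- Stabilizers in the automorphism group. -/
abbrev A0 : Subgroup (Equiv.Perm (Fin deg)) := A ⊓ Stb p0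
/-- Stabilizers in the automorphism group. -/
abbrev A01 : Subgroup (Equiv.Perm (Fin deg)) := A0 ⊓ Stb p1
/-- Stabilizers in the automorphism group. -/
abbrev A012 : Subgroup (Equiv.Perm (Fin deg)) := A01 ⊓ Stb p2
/-- Stabilizers in the automorphism group. -/
abbrev A0125 : Subgroup (Equiv.Perm (Fin deg)) := A012 ⊓ Stb p5

theorem fixL_one {f : Equiv.Perm (Fin deg)} (h : f p0 = p0) : FixL f [0] := by
  intro b hb hlt
  rcases List.mem_singleton.mp hb with rfl
  exact h

theorem fixL_cons {f : Equiv.Perm (Fin deg)} {a : Nat} {bs : List Nat} (ha : ∀ h : a < deg, f ⟨a, h⟩ = ⟨a, h⟩)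
    (h : FixL f bs) : FixL f (a :: bs) := by
  intro b hb hlt
  rcases List.mem_cons.mp hb with rfl | hb
  · exact ha hlt
  · exact h b hb hlt

theorem inv_level {f : Equiv.Perm (Fin deg)} (hf : f ∈ A) {bs : List Nat} (hbs : FixL f bs) (P' : List Ins) :
    InvMask f (memAt (runP deg raAt bs P') 0) :=
  memAt_cases (P := fun a => InvMask f a) (invMask_zero f) (runP_inv hn hrA hf hbs P') 0

theorem lvl_facts {M b c : Nat} (h : (tb M b && Nat.blt M (Nat.pow 2 deg) && Nat.beq (popc M) c) = true) :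
    M.testBit b = true ∧ M < 2 ^ deg ∧ popc M = c := by
  simp only [Bool.and_eq_true, Nat.blt_eq, Nat.beq_eq, tb_eq] at h
  exact ⟨h.1.1, h.1.2, h.2⟩

theorem mU_lt : mU < 2 ^ deg := by
  have e : mU = 2 ^ deg - 1 := rfl
  rw [e]
  exact Nat.sub_lt (by positivity) one_pos

theorem mU_testBit (v : Fin deg) : mU.testBit v = true := by
  have e : mU = 2 ^ deg - 1 := rfl
  rw [e, Nat.testBit_two_pow_sub_one]
  simp

theorem card_A : Nat.card A ≤ 4060 * Nat.card A0 := by
  have h := card_le_of_invMask hn A p0 (M := mU) (fun f _ => invMask_univ f) (mU_testBit _) mU_lt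
  rwa [(Nat.beq_eq.mp popc_U : popc mU = 4060)] at h

theorem card_A0 : Nat.card A0 ≤ 2304 * Nat.card A01 := by
  obtain ⟨h1, h2, h3⟩ := lvl_facts lvl0
  have h := card_le_of_invMask hn A0 p1 (M := mL0)
    (fun f hf => inv_level hf.1 (fixL_one hf.2) progL0) h1 h2
  rwa [h3] at h

theorem card_A01 : Nat.card A01 ≤ 650 * Nat.card A012 := by
  obtain ⟨h1, h2, h3⟩ := lvl_facts lvl1
  have h := card_le_of_invMask hn A01 p2 (M := mL1)
    (fun f hf => inv_level hf.1.1 (fixL_cons (fun _ => hf.2) (fixL_one hf.1.2)) progL1) h1 h2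
  rwa [h3] at h

theorem card_A012 : Nat.card A012 ≤ 24 * Nat.card A0125 := by
  obtain ⟨h1, h2, h3⟩ := lvl_facts lvl2
  have h := card_le_of_invMask hn A012 p5 (M := mL2)
    (fun f hf => inv_level hf.1.1.1 (fixL_cons (fun _ => hf.2) (fixL_cons (fun _ => hf.1.2)
      (fixL_one hf.1.1.2))) progL2) h1 h2
  rwa [h3] at h

theorem A0125_one {f : Equiv.Perm (Fin deg)} (hf : f ∈ A0125) : f = 1 :=
  eq_one_of_sep hn hrA hf.1.1.1.1
    (fixL_cons (fun _ => hf.2) (fixL_cons (fun _ => hf.1.2) (fixL_cons (fun _ => hf.1.1.2) (fixL_one hf.1.1.1.2))))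
    lvl3

instance : Finite (Equiv.Perm (Fin deg)) := inferInstance

theorem card_A0125 : Nat.card A0125 = 1 := by
  rw [Nat.card_eq_one_iff_unique]
  refine ⟨⟨fun a b => Subtype.ext ((A0125_one a.2).trans (A0125_one b.2).symm)⟩, ⟨1⟩⟩

theorem card_A012' : Nat.card A012 ≤ 24 := by
  have := card_A012
  rwa [card_A0125, mul_one] at this

theorem card_A0' : Nat.card A0 ≤ 35942400 := by
  have h1 := card_A0
  have h2 := card_A01
  have h3 := card_A012'
  omega

theorem card_A' : Nat.card A ≤ 145926144000 := by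
  have h1 := card_A
  have h2 := card_A0'
  omega

/-! ### The small group -/

theorem T_fix0 (f : Equiv.Perm (Fin deg)) (hf : f ∈ T) : f p0 = p0 := by
  have h1 : T ≤ Stb p0 := by
    refine (Subgroup.closure_le _).mpr ?_
    have ht := t_fix0
    simp only [Bool.and_eq_true, Nat.beq_eq] at ht
    rintro _ ⟨e, he, rfl⟩
    rcases List.mem_cons.mp he with rfl | he
    · show permOf 12 4095 deg et1 p0 = p0
      apply Fin.ext
      rw [permOf_apply valid_t1]
      exact ht.1
    · rcases List.mem_singleton.mp he with rfl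
      show permOf 12 4095 deg et2 p0 = p0
      apply Fin.ext
      rw [permOf_apply valid_t2]
      exact ht.2
  exact h1 hf

/-- Stabilizers in the small group. -/
abbrev T1 : Subgroup (Equiv.Perm (Fin deg)) := T ⊓ Stb p1
/-- Stabilizers in the small group. -/
abbrev T12 : Subgroup (Equiv.Perm (Fin deg)) := T1 ⊓ Stb p2

theorem card_T_le : Nat.card T ≤ 2304 * Nat.card T1 := by
  obtain ⟨h1, h2, h3⟩ := lvl_facts lvl0
  have h := card_le_of_invMask hn T p1 (M := mL0)
    (fun f hf => inv_level (T_le_A hf) (fixL_one (T_fix0 f hf)) progL0) h1 h2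
  rwa [h3] at h

theorem card_T1_le : Nat.card T1 ≤ 325 * Nat.card T12 := by
  have hr := r1_props
  have hs := s_props
  simp only [Bool.and_eq_true, Nat.beq_eq, Nat.blt_eq, tb_eq] at hr hs
  have h := card_le_of_invMask hn T1 p2 (M := rrAt 1)
    (fun f hf => invMask_row rrAt (T_le_AR hf.1) p1 hf.2) hs.1.2 hr.2
  rwa [hr.1] at h

theorem T12_le : T12 ≤ A012 := fun f hf =>
  ⟨⟨⟨T_le_A hf.1.1, T_fix0 f hf.1.1⟩, hf.1.2⟩, hf.2⟩

theorem card_T_upper : Nat.card T ≤ 17971200 := by
  have h1 := card_T_le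
  have h2 := card_T1_le
  have h3 : Nat.card T12 ≤ 24 := (Subgroup.card_le_of_le T12_le).trans card_A012'
  omega

theorem popc_facts : popc mY = 2304 ∧ popc mX = 1755 ∧ popc m325 = 325 ∧ popc m24 = 24 ∧ popc mf0 = 1 ∧
    popc mf1 = 1024 ∧ popc mf2 = 10 ∧ popc mf3 = 640 ∧ popc mf4 = 80 := by
  have h := popc_masks
  simp only [Bool.and_eq_true, Nat.beq_eq] at h
  tauto

theorem bound_facts : mY < 2 ^ deg ∧ mX < 2 ^ deg ∧ m325 < 2 ^ deg ∧ m24 < 2 ^ deg ∧ mf0 < 2 ^ deg ∧
    mf1 < 2 ^ deg ∧ mf2 < 2 ^ deg ∧ mf3 < 2 ^ deg ∧ mf4 < 2 ^ deg := by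
  have h := bound_masks
  simp only [Bool.and_eq_true, Nat.blt_eq] at h
  tauto

theorem wpT_fix1 (c : Nat) : wordPerm 12 4095 deg gensT (nthL w1L c) ∈ T1 := by
  refine ⟨wordPerm_mem _ _, ?_⟩
  refine nthL_cases (P := fun u => wordPerm 12 4095 deg gensT u p1 = p1) rfl ?_ c
  intro u hu
  have h := List.all_eq_true.mp word_fix1 u hu
  rw [Nat.beq_eq] at h
  apply Fin.ext
  rw [← wordFn_eq valid_T]
  exact h

theorem wpT_fix2 (c : Nat) : wordPerm 12 4095 deg gensT (nthL w2L c) ∈ T12 := by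
  refine ⟨⟨wordPerm_mem _ _, ?_⟩, ?_⟩
  · refine nthL_cases (P := fun u => wordPerm 12 4095 deg gensT u p1 = p1) rfl ?_ c
    intro u hu
    have h := List.all_eq_true.mp word_fix2 u hu
    rw [Bool.and_eq_true, Nat.beq_eq] at h
    apply Fin.ext
    rw [← wordFn_eq valid_T]
    exact h.1
  · refine nthL_cases (P := fun u => wordPerm 12 4095 deg gensT u p2 = p2) rfl ?_ c
    intro u hu
    have h := List.all_eq_true.mp word_fix2 u hu
    rw [Bool.and_eq_true, Nat.beq_eq, Nat.beq_eq] at h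
    apply Fin.ext
    rw [← wordFn_eq valid_T]
    exact h.2

theorem card_T_ge1 : 2304 * Nat.card T1 ≤ Nat.card T := by
  have h := card_ge_of_reach hn T p1 (M := mY) (fun v hv => by
    rw [← Nat.beq_eq.mp tree_Y] at hv
    exact reach_of_tree valid_T (fun c => [c]) (fun c => wordPerm_mem _ _) p1 actT (fun _ _ => rfl) _ _ v hv)
    bound_facts.1
  rwa [popc_facts.1] at h

theorem card_T1_ge : 325 * Nat.card T12 ≤ Nat.card T1 := by
  have h := card_ge_of_reach hn T1 p2 (M := m325) (fun v hv => by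
    rw [← Nat.beq_eq.mp tree_325] at hv
    exact reach_of_tree valid_T (nthL w1L) wpT_fix1 p2 act1 (fun _ _ => rfl) _ _ v hv)
    bound_facts.2.2.1
  rwa [popc_facts.2.2.1] at h

theorem card_T12_ge : 24 ≤ Nat.card T12 := by
  have h := card_ge_of_reach hn T12 p5 (M := m24) (fun v hv => by
    rw [← Nat.beq_eq.mp tree_24] at hv
    exact reach_of_tree valid_T (nthL w2L) wpT_fix2 p5 act2 (fun _ _ => rfl) _ _ v hv)
    bound_facts.2.2.2.1
  rw [popc_facts.2.2.2.1] at h
  have h1 : 0 < Nat.card ↥(T12 ⊓ Stb p5) := Nat.card_pos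
  nlinarith

theorem card_T : Nat.card T = 17971200 := by
  have h1 := card_T_ge1
  have h2 := card_T1_ge
  have h3 := card_T12_ge
  have h4 := card_T_upper
  omega

/-! ### The big group -/

theorem P_reach (v : Fin deg) : ∃ g ∈ P, g p0 = v := by
  have hv : (treeGo actP treeP 4059 0 (Nat.shiftLeft 1 0)).testBit v = true := by
    rw [Nat.beq_eq.mp tree_P]
    exact mU_testBit v
  exact reach_of_tree valid_P (fun c => [c]) (fun c => wordPerm_mem _ _) p0 actP (fun _ _ => rfl) _ _ v hv

instance P_trans : IsPretransitive P (Fin deg) := by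
  have hbase : ∀ x : Fin deg, ∃ g : P, g • p0 = x := by
    intro x
    obtain ⟨g, hg, hgx⟩ := P_reach x
    exact ⟨⟨g, hg⟩, hgx⟩
  refine ⟨fun x y => ?_⟩
  obtain ⟨g, rfl⟩ := hbase x
  obtain ⟨h, rfl⟩ := hbase y
  exact ⟨h * g⁻¹, by simp [mul_smul]⟩

/-- The stabilizer in the big group. -/
abbrev S0 : Subgroup (Equiv.Perm (Fin deg)) := P ⊓ Stb p0

theorem T_le_S0 : T ≤ S0 := fun f hf => ⟨T_le_P hf, T_fix0 f hf⟩

/-- The outer element. -/
noncomputable abbrev es : Equiv.Perm (Fin deg) := wordPerm 12 4095 deg gensP ws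

theorem es_mem : es ∈ S0 := by
  refine ⟨wordPerm_mem _ _, ?_⟩
  have hs := s_props
  simp only [Bool.and_eq_true, Nat.beq_eq] at hs
  show wordPerm 12 4095 deg gensP ws p0 = p0
  apply Fin.ext
  rw [← wordFn_eq valid_P]
  exact hs.1.1

theorem es_not_mem : es ∉ T := by
  intro h
  have h1 := T_le_AR h p1 p2
  have hs := s_props
  simp only [Bool.and_eq_true, Nat.beq_eq, Bool.not_eq_true', tb_eq] at hs
  have e1 : (es p1 : Nat) = wfP ws 1 := (wordFn_eq valid_P ws p1).symm
  have e2 : (es p2 : Nat) = wfP ws 2 := (wordFn_eq valid_P ws p2).symm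
  rw [e1, e2, hs.2] at h1
  have h2 : (rrAt 1).testBit 2 = true := hs.1.2
  have h3 : (rrAt ((p1 : Fin deg) : Nat)).testBit ((p2 : Fin deg) : Nat) = true := h2
  rw [h3] at h1
  exact Bool.noConfusion h1

theorem card_S0 : Nat.card S0 = 35942400 := by
  have h1 : Nat.card T ∣ Nat.card S0 := Subgroup.card_dvd_of_le T_le_S0
  have h2 : Nat.card S0 ≤ 35942400 :=
    (Subgroup.card_le_of_le (fun f hf => ⟨P_le_A hf.1, hf.2⟩ : S0 ≤ A0)).trans card_A0'
  rw [card_T] at h1
  obtain ⟨k, hk⟩ := h1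
  have hk0 : k ≠ 0 := by
    rintro rfl
    have : 0 < Nat.card S0 := Nat.card_pos
    omega
  have hk1 : k ≠ 1 := by
    rintro rfl
    have h3 : T = S0 := Subgroup.eq_of_le_of_card_ge T_le_S0 (by rw [card_T]; omega)
    exact es_not_mem (h3 ▸ es_mem)
  have hk2 : k ≤ 2 := by
    by_contra h
    have : 3 ≤ k := by omega
    nlinarith
  have : k = 2 := by omega
  omega

theorem card_P : Nat.card P = 145926144000 := by
  have h1 := card_ge_of_reach hn P p0 (M := mU) (fun v _ => P_reach v) mU_lt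
  rw [(Nat.beq_eq.mp popc_U : popc mU = 4060), card_S0] at h1
  have h2 : Nat.card P ≤ Nat.card A := Subgroup.card_le_of_le P_le_A
  have h3 := card_A'
  omega

/-! ### The classes of the small group on the points -/

theorem mX_testBit (v : Nat) : mX.testBit v = (raAt 0).testBit v := by
  rw [Nat.beq_eq.mp mX_row]

theorem point_cases (v : Fin deg) : v = p0 ∨ mY.testBit v = true ∨ mX.testBit v = true := by
  have h := mU_testBit v
  rw [← Nat.beq_eq.mp mY_compl] at h
  have e : Nat.lor (Nat.lor mX mY) 1 = (mX ||| mY) ||| 1 := rfl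
  rw [e, Nat.testBit_or, Nat.testBit_or, Bool.or_eq_true, Bool.or_eq_true] at h
  rcases h with (h | h) | h
  · exact Or.inr (Or.inr h)
  · exact Or.inr (Or.inl h)
  · left
    apply Fin.ext
    have h1 : Nat.testBit 1 v = Nat.testBit (2 ^ 0) v := rfl
    rw [h1, Nat.testBit_two_pow] at h
    have : 0 = (v : Nat) := by simpa using h
    exact this.symm

theorem mY_disj_facts : (∀ v : Nat, mX.testBit v = true → mY.testBit v = true → False) ∧ mX.testBit 0 = false ∧
    mY.testBit 0 = false := by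
  have h := mY_disj
  simp only [Bool.and_eq_true, Nat.beq_eq, Bool.not_eq_true', tb_eq] at h
  refine ⟨?_, h.1.2, h.2⟩
  intro v h1 h2
  have h3 : (mX &&& mY).testBit v = true := by
    rw [Nat.testBit_and, h1, h2]
    rfl
  have h4 : mX &&& mY = 0 := h.1.1
  rw [h4] at h3
  simp at h3

theorem T_reach_Y (v : Fin deg) (hv : mY.testBit v = true) : ∃ g ∈ T, g p1 = v := by
  rw [← Nat.beq_eq.mp tree_Y] at hv
  exact reach_of_tree valid_T (fun c => [c]) (fun c => wordPerm_mem _ _) p1 actT (fun _ _ => rfl) _ _ v hv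

theorem T_reach_X (v : Fin deg) (hv : mX.testBit v = true) : ∃ g ∈ T, g px = v := by
  rw [← Nat.beq_eq.mp tree_X] at hv
  exact reach_of_tree valid_T (fun c => [c]) (fun c => wordPerm_mem _ _) px actT (fun _ _ => rfl) _ _ v hv

/-- The class of a point under the small group. -/
noncomputable def clP (v : Fin deg) : Fin 3 := by
  classical
  exact if v = p0 then 0 else if mY.testBit v = true then 1 else 2

theorem clP_zero {v : Fin deg} : clP v = 0 ↔ v = p0 := by
  unfold clP
  by_cases h : v = p0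
  · simp [h]
  · by_cases h2 : mY.testBit v = true
    · simp [h, h2]
    · simp [h, h2]

theorem clP_one {v : Fin deg} : clP v = 1 ↔ mY.testBit v = true := by
  unfold clP
  by_cases h : v = p0
  · subst h
    have := mY_disj_facts.2.2
    simp [this]
  · by_cases h2 : mY.testBit v = true
    · rw [if_neg h, if_pos h2]
      simp [h2]
    · rw [if_neg h, if_neg h2]
      simp [h2]

theorem clP_two {v : Fin deg} : clP v = 2 ↔ mX.testBit v = true := by
  unfold clP
  by_cases h : v = p0
  · subst h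
    have := mY_disj_facts.2.1
    simp [this]
  · by_cases h2 : mY.testBit v = true
    · have h3 : mX.testBit v = false := by
        cases h4 : mX.testBit v with
        | false => rfl
        | true => exact (mY_disj_facts.1 v h4 h2).elim
      rw [if_neg h, if_pos h2, h3]
      simp
    · have h3 : mX.testBit v = true := by
        rcases point_cases v with h4 | h4 | h4
        · exact (h h4).elim
        · exact (h2 h4).elim
        · exact h4
      rw [if_neg h, if_neg h2, h3]
      simp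

/-- Two points of the same image under a subgroup. -/
theorem conn_of_reach {H : Subgroup (Equiv.Perm (Fin deg))} {r x y : Fin deg} (hx : ∃ g ∈ H, g r = x)
    (hy : ∃ g ∈ H, g r = y) : ∃ k ∈ H, k x = y := by
  obtain ⟨g, hg, rfl⟩ := hx
  obtain ⟨g', hg', rfl⟩ := hy
  refine ⟨g' * g⁻¹, H.mul_mem hg' (H.inv_mem hg), ?_⟩
  rw [Equiv.Perm.mul_apply]
  congr 1
  exact g.symm_apply_apply r

theorem card_filter_mask (M : Nat) (hlt : M < 2 ^ deg) :
    (Finset.univ.filter fun v : Fin deg => M.testBit v = true).card = popc M := (popc_eq hn hlt).symm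

theorem harithP : ∀ J : Finset (Fin 3), (0 : Fin 3) ∈ J →
    (∑ c ∈ J, (![1, 2304, 1755] : Fin 3 → ℕ) c) ∣ deg →
    (∑ c ∈ J, (![1, 2304, 1755] : Fin 3 → ℕ) c) = 1 ∨ (∑ c ∈ J, (![1, 2304, 1755] : Fin 3 → ℕ) c) = deg := by
  decide +kernel

instance P_prim : IsPreprimitive P (Fin deg) := by
  refine Cfsg.Agent.Lib.Compute.J3.Chain.preprimitive_of_classes P p0 T T_le_P T_fix0 clP ?_ ![1, 2304, 1755] ?_ ?_
  · intro x y hxy
    have h0 : ∀ c : Fin 3, c = 0 ∨ c = 1 ∨ c = 2 := by decide
    rcases h0 (clP y) with h | h | h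
    · have hx := clP_zero.1 (hxy.trans h)
      have hy := clP_zero.1 h
      exact ⟨1, T.one_mem, by rw [hx, hy]; rfl⟩
    · exact conn_of_reach (T_reach_Y x (clP_one.1 (hxy.trans h))) (T_reach_Y y (clP_one.1 h))
    · exact conn_of_reach (T_reach_X x (clP_two.1 (hxy.trans h))) (T_reach_X y (clP_two.1 h))
  · have h0 : ∀ c : Fin 3, c = 0 ∨ c = 1 ∨ c = 2 := by decide
    intro c
    rcases h0 c with rfl | rfl | rfl
    · have e : (Finset.univ.filter fun x => clP x = 0) = {p0} := by
        ext x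
        simp [clP_zero]
      rw [e, Finset.card_singleton]
      rfl
    · have e : (Finset.univ.filter fun x => clP x = 1) = (Finset.univ.filter fun v : Fin deg => mY.testBit v = true) := by
        ext x
        simp only [Finset.mem_filter, Finset.mem_univ, true_and, clP_one]
      rw [e, card_filter_mask _ bound_facts.1, popc_facts.1]
      rfl
    · have e : (Finset.univ.filter fun x => clP x = 2) = (Finset.univ.filter fun v : Fin deg => mX.testBit v = true) := by
        ext x
        simp only [Finset.mem_filter, Finset.mem_univ, true_and, clP_two]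
      rw [e, card_filter_mask _ bound_facts.2.1, popc_facts.2.1]
      rfl
  · intro J hJ hd
    have h0 : clP p0 = 0 := clP_zero.2 rfl
    rw [h0] at hJ
    exact harithP J hJ hd

theorem P_order_gens (x : Equiv.Perm (Fin deg)) (hx : x ∈ {x | ∃ e ∈ gensP, permOf 12 4095 deg e = x}) :
    ∃ k : ℕ, orderOf x = 29 ^ k := by
  obtain ⟨e, he, rfl⟩ := hx
  have h1 := List.all_eq_true.mp ord_P e he
  simp only [ordP, Bool.and_eq_true, Bool.not_eq_true', allB_iff, Nat.beq_eq] at h1
  have : Fact (Nat.Prime 29) := ⟨by norm_num⟩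
  refine ⟨1, ?_⟩
  rw [pow_one]
  refine orderOf_permOf (List.all_eq_true.mp valid_P e he) (fun i => h1.1 i i.2) ⟨p1, ?_⟩
  intro h
  have h2 : Nat.beq (get 12 4095 e.f 1) 1 = true := by
    rw [Nat.beq_eq]
    exact h
  rw [h2] at h1
  exact absurd h1.2 (by simp)

theorem T_order_gens (x : Equiv.Perm (Fin deg)) (hx : x ∈ {x | ∃ e ∈ gensT, permOf 12 4095 deg e = x}) :
    ∃ k : ℕ, orderOf x = 13 ^ k := by
  obtain ⟨e, he, rfl⟩ := hx
  have h1 := List.all_eq_true.mp ord_T e he
  simp only [ordP, Bool.and_eq_true, Bool.not_eq_true', allB_iff, Nat.beq_eq] at h1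
  have : Fact (Nat.Prime 13) := ⟨by norm_num⟩
  refine ⟨1, ?_⟩
  rw [pow_one]
  refine orderOf_permOf (List.all_eq_true.mp valid_T e he) (fun i => h1.1 i i.2) ⟨p1, ?_⟩
  intro h
  have h2 : Nat.beq (get 12 4095 e.f 1) 1 = true := by
    rw [Nat.beq_eq]
    exact h
  rw [h2] at h1
  exact absurd h1.2 (by simp)

theorem P_nontrivial : Nontrivial P := by
  rw [← Finite.one_lt_card_iff_nontrivial, card_P]
  norm_num

theorem P_simple : IsSimpleGroup P := by
  have := P_nontrivial
  have : Fact (Nat.Prime 29) := ⟨by norm_num⟩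
  refine isSimpleGroup_of_pPart (X := Fin deg) 29 (a := 1) (m := 5031936000) (by rw [card_P]; norm_num) (by norm_num)
    (by simp only [Nat.card_eq_fintype_card, Fintype.card_fin]; norm_num) ?_
  exact closure_pElts_eq_top P_order_gens

theorem P_stab : Nat.card (stabilizer P (0 : Fin deg)) = 35942400 := by
  rw [← card_S0]
  apply Nat.card_congr
  exact {
    toFun := fun x => ⟨x.1.1, x.1.2, x.2⟩
    invFun := fun x => ⟨⟨x.1, x.2.1⟩, x.2.2⟩
    left_inv := fun _ => rfl
    right_inv := fun _ => rfl }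


/-! ### The small group on the neighbours of the fixed point -/

/-- The neighbours of the fixed point. -/
abbrev XT : Type := {x : Fin deg // mX.testBit x = true}

theorem T_pres_X (f : Equiv.Perm (Fin deg)) (hf : f ∈ T) (x : Fin deg) : mX.testBit (f x) = mX.testBit x := by
  have h := T_le_A hf p0 x
  rw [T_fix0 f hf] at h
  rw [mX_testBit, mX_testBit]
  exact h

instance XT_act : MulAction T XT where
  smul t x := ⟨t.1 x.1, by rw [T_pres_X _ t.2]; exact x.2⟩
  one_smul _ := rfl
  mul_smul _ _ _ := rfl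

theorem XT_smul (t : T) (x : XT) : (t • x).1 = t.1 x.1 := rfl

theorem card_XT : Nat.card XT = 1755 := by
  rw [Nat.card_eq_fintype_card, Fintype.card_subtype, card_filter_mask _ bound_facts.2.1, popc_facts.2.1]

theorem T_fix_X_one {f : Equiv.Perm (Fin deg)} (hf : f ∈ T) (h : ∀ x : XT, f x.1 = x.1) : f = 1 := by
  have hs := sepX_props
  rw [Bool.and_eq_true] at hs
  ext v
  have key := eq_of_sep (sepX.map raAt) mU hs.1 (f v) v (mU_testBit _) (mU_testBit _) ?_
  · rw [key]
    rfl
  · intro r hr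
    obtain ⟨x, hx, rfl⟩ := List.mem_map.mp hr
    have h2 := List.all_eq_true.mp hs.2 x hx
    rw [Bool.and_eq_true, Nat.blt_eq] at h2
    have h3 : mX.testBit x = true := by
      rw [← tb_eq]
      exact h2.2
    have h4 := h ⟨⟨x, h2.1⟩, h3⟩
    exact invMask_row raAt (T_le_A hf) ⟨x, h2.1⟩ h4 v

instance XT_faithful : FaithfulSMul T XT := by
  refine ⟨fun {a b} h => ?_⟩
  have h1 : (a⁻¹ * b).1 = 1 := by
    refine T_fix_X_one (a⁻¹ * b).2 fun x => ?_
    have h2 : (a⁻¹ * b) • x = x := by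
      rw [mul_smul, ← h x, inv_smul_smul]
    exact congrArg Subtype.val h2
  have h3 : a⁻¹ * b = 1 := Subtype.ext h1
  exact (inv_mul_eq_one.mp h3)

theorem px_mem : mX.testBit (px : Nat) = true := by decide +kernel

/-- The base point of the action on neighbours. -/
abbrev xpt : XT := ⟨px, px_mem⟩

instance XT_trans : IsPretransitive T XT := by
  have hbase : ∀ x : XT, ∃ g : T, g • xpt = x := by
    intro x
    obtain ⟨g, hg, hgx⟩ := T_reach_X x.1 x.2
    exact ⟨⟨g, hg⟩, Subtype.ext hgx⟩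
  refine ⟨fun x y => ?_⟩
  obtain ⟨g, rfl⟩ := hbase x
  obtain ⟨h, rfl⟩ := hbase y
  exact ⟨h * g⁻¹, by simp [mul_smul]⟩

/-- The stabilizer of the base point in the small group. -/
abbrev Tx : Subgroup (Equiv.Perm (Fin deg)) := T ⊓ Stb px

theorem wpT_fixX (c : Nat) : wordPerm 12 4095 deg gensT (nthL wxL c) ∈ Tx := by
  refine ⟨wordPerm_mem _ _, ?_⟩
  refine nthL_cases (P := fun u => wordPerm 12 4095 deg gensT u px = px) rfl ?_ c
  intro u hu
  have h := List.all_eq_true.mp word_fixX u hu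
  rw [Nat.beq_eq] at h
  apply Fin.ext
  rw [← wordFn_eq valid_T]
  exact h

/-- The masks of the suborbits. -/
def mfv : Fin 5 → Nat := ![mf0, mf1, mf2, mf3, mf4]

theorem part_bits (v : Nat) : (mf0.testBit v || mf1.testBit v || mf2.testBit v || mf3.testBit v || mf4.testBit v) =
      mX.testBit v ∧
    (mf0.testBit v && (mf1.testBit v || mf2.testBit v || mf3.testBit v || mf4.testBit v)) = false ∧
    (mf1.testBit v && (mf2.testBit v || mf3.testBit v || mf4.testBit v)) = false ∧
    (mf2.testBit v && (mf3.testBit v || mf4.testBit v)) = false ∧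
    (mf3.testBit v && mf4.testBit v) = false := by
  have h := part_masks
  simp only [Bool.and_eq_true, Nat.beq_eq] at h
  obtain ⟨⟨⟨⟨h0, h1⟩, h2⟩, h3⟩, h4⟩ := h
  have h0' : mf0 ||| (mf1 ||| (mf2 ||| (mf3 ||| mf4))) = mX := h0
  have h1' : mf0 &&& (mf1 ||| (mf2 ||| (mf3 ||| mf4))) = 0 := h1
  have h2' : mf1 &&& (mf2 ||| (mf3 ||| mf4)) = 0 := h2
  have h3' : mf2 &&& (mf3 ||| mf4) = 0 := h3
  have h4' : mf3 &&& mf4 = 0 := h4
  refine ⟨?_, ?_, ?_, ?_, ?_⟩
  · rw [← h0']
    simp only [Nat.testBit_or, Bool.or_assoc]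
  · have := congrArg (fun n => Nat.testBit n v) h1'
    simpa only [Nat.testBit_and, Nat.testBit_or, Nat.zero_testBit, Bool.or_assoc] using this
  · have := congrArg (fun n => Nat.testBit n v) h2'
    simpa only [Nat.testBit_and, Nat.testBit_or, Nat.zero_testBit, Bool.or_assoc] using this
  · have := congrArg (fun n => Nat.testBit n v) h3'
    simpa only [Nat.testBit_and, Nat.testBit_or, Nat.zero_testBit, Bool.or_assoc] using this
  · have := congrArg (fun n => Nat.testBit n v) h4'
    simpa only [Nat.testBit_and, Nat.zero_testBit] using this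

/-- The class from the bits. -/
def clBits (b0 b1 b2 b3 : Bool) : Fin 5 :=
  if b0 = true then 0 else if b1 = true then 1 else if b2 = true then 2 else if b3 = true then 3 else 4

/-- The class of a neighbour. -/
def clX (x : XT) : Fin 5 := clBits (mf0.testBit x.1) (mf1.testBit x.1) (mf2.testBit x.1) (mf3.testBit x.1)

theorem clBits_iff : ∀ b0 b1 b2 b3 b4 : Bool, (b0 || b1 || b2 || b3 || b4) = true →
    (b0 && (b1 || b2 || b3 || b4)) = false → (b1 && (b2 || b3 || b4)) = false → (b2 && (b3 || b4)) = false →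
    (b3 && b4) = false → ∀ c : Fin 5, clBits b0 b1 b2 b3 = c ↔ (![b0, b1, b2, b3, b4] c) = true := by
  intro b0 b1 b2 b3 b4 h0 h1 h2 h3 h4
  cases b0 <;> cases b1 <;> cases b2 <;> cases b3 <;> cases b4 <;> simp at h0 h1 h2 h3 h4 <;> decide

theorem clX_iff (x : XT) (c : Fin 5) : clX x = c ↔ (mfv c).testBit x.1 = true := by
  obtain ⟨h0, h1, h2, h3, h4⟩ := part_bits x.1
  rw [x.2] at h0
  have := clBits_iff _ _ _ _ _ h0 h1 h2 h3 h4 c
  have e : (![mf0.testBit x.1, mf1.testBit x.1, mf2.testBit x.1, mf3.testBit x.1, mf4.testBit x.1] c) =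
      (mfv c).testBit x.1 := by
    fin_cases c <;> rfl
  rw [e] at this
  exact this

theorem mfv_sub (c : Fin 5) (v : Nat) (h : (mfv c).testBit v = true) : mX.testBit v = true := by
  obtain ⟨h0, -⟩ := part_bits v
  rw [← h0]
  fin_cases c <;> simp only [mfv] at h <;> simp_all

/-- The roots of the suborbits. -/
def rootF : Fin 5 → Fin deg := ![⟨2305, by decide⟩, ⟨2306, by decide⟩, ⟨3330, by decide⟩, ⟨3331, by decide⟩,
  ⟨3844, by decide⟩]

theorem T_reach_f (c : Fin 5) (v : Fin deg) (hv : (mfv c).testBit v = true) : ∃ g ∈ Tx, g (rootF c) = v := by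
  fin_cases c
  · have hv' : mf0.testBit v = true := hv
    rw [← Nat.beq_eq.mp tree_f0] at hv'
    exact reach_of_tree valid_T (nthL wxL) wpT_fixX _ actX (fun _ _ => rfl) _ _ v hv'
  · have hv' : mf1.testBit v = true := hv
    rw [← Nat.beq_eq.mp tree_f1] at hv'
    exact reach_of_tree valid_T (nthL wxL) wpT_fixX _ actX (fun _ _ => rfl) _ _ v hv'
  · have hv' : mf2.testBit v = true := hv
    rw [← Nat.beq_eq.mp tree_f2] at hv'
    exact reach_of_tree valid_T (nthL wxL) wpT_fixX _ actX (fun _ _ => rfl) _ _ v hv'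
  · have hv' : mf3.testBit v = true := hv
    rw [← Nat.beq_eq.mp tree_f3] at hv'
    exact reach_of_tree valid_T (nthL wxL) wpT_fixX _ actX (fun _ _ => rfl) _ _ v hv'
  · have hv' : mf4.testBit v = true := hv
    rw [← Nat.beq_eq.mp tree_f4] at hv'
    exact reach_of_tree valid_T (nthL wxL) wpT_fixX _ actX (fun _ _ => rfl) _ _ v hv'

theorem harithX : ∀ J : Finset (Fin 5), (0 : Fin 5) ∈ J →
    (∑ c ∈ J, (![1, 1024, 10, 640, 80] : Fin 5 → ℕ) c) ∣ 1755 →
    (∑ c ∈ J, (![1, 1024, 10, 640, 80] : Fin 5 → ℕ) c) = 1 ∨ (∑ c ∈ J, (![1, 1024, 10, 640, 80] : Fin 5 → ℕ) c) = 1755 := by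
  decide +kernel

theorem popc_mfv (c : Fin 5) : popc (mfv c) = (![1, 1024, 10, 640, 80] : Fin 5 → ℕ) c ∧ mfv c < 2 ^ deg := by
  obtain ⟨-, -, -, -, h0, h1, h2, h3, h4⟩ := popc_facts
  obtain ⟨-, -, -, -, b0, b1, b2, b3, b4⟩ := bound_facts
  fin_cases c
  · exact ⟨h0, b0⟩
  · exact ⟨h1, b1⟩
  · exact ⟨h2, b2⟩
  · exact ⟨h3, b3⟩
  · exact ⟨h4, b4⟩

instance XT_prim : IsPreprimitive T XT := by
  refine preprimitive_of_classes' xpt (stabilizer T xpt) (fun k hk => hk) clX ?_ ![1, 1024, 10, 640, 80] ?_ ?_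
  · intro x y hxy
    have hx := (clX_iff x (clX y)).1 hxy
    have hy := (clX_iff y (clX y)).1 rfl
    obtain ⟨k, hk, hkxy⟩ := conn_of_reach (T_reach_f _ _ hx) (T_reach_f _ _ hy)
    exact ⟨⟨k, hk.1⟩, Subtype.ext hk.2, Subtype.ext hkxy⟩
  · intro c
    obtain ⟨h1, h2⟩ := popc_mfv c
    rw [← h1, ← card_filter_mask _ h2]
    refine Finset.card_bij (fun x _ => x.1) ?_ ?_ ?_
    · intro x hx
      simp only [Finset.mem_filter, Finset.mem_univ, true_and] at hx ⊢
      exact (clX_iff x c).1 hx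
    · intro a _ b _ hab
      exact Subtype.ext hab
    · intro b hb
      simp only [Finset.mem_filter, Finset.mem_univ, true_and] at hb
      refine ⟨⟨b, mfv_sub c b hb⟩, ?_, rfl⟩
      simp only [Finset.mem_filter, Finset.mem_univ, true_and]
      exact (clX_iff _ c).2 hb
  · intro J hJ hd
    rw [card_XT] at hd ⊢
    have h0 : clX xpt = 0 := by decide +kernel
    rw [h0] at hJ
    exact harithX J hJ hd

theorem T_nontrivial : Nontrivial T := by
  rw [← Finite.one_lt_card_iff_nontrivial, card_T]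
  norm_num

theorem T_simple : IsSimpleGroup T := by
  have := T_nontrivial
  have : Fact (Nat.Prime 13) := ⟨by norm_num⟩
  refine isSimpleGroup_of_pPart (X := XT) 13 (a := 1) (m := 1382400) (by rw [card_T]; norm_num) (by norm_num)
    (by rw [card_XT]; norm_num) ?_
  exact closure_pElts_eq_top T_order_gens

end Cfsg.Agent.Lib.Compute.Ru.Main
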